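import Mathlib
import Cfsg.Agent.KFacts.TwESix.NodeCoord

/-!
# S4842: rank one (helper866)

`ψ : SL₂(F) →* A` (`A` a complex algebra with a trace `tr`), `ε` an idempotent commuting with the image of `ψ`,
`u` = (average over the upper unipotent group) `* ε`.  If `ε` is "generated" by `u`, then for elliptic `B` and `τ`
commuting with everything `tr (τ ψ(B) ε) = tr (τ πA) - tr (τ πS)`, and
`tr ε = tr πA + q tr πS + (q+1)/2 tr π'`, where `u = πA + πS + π'`.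
-/

set_option autoImplicit false
set_option linter.unusedSectionVars false
set_option maxHeartbeats 400000

namespace Cfsg.Agent.H866.OZ

open Cfsg.Agent.ChevalleyStructure.SL2Hom (up lo mem_closure_SL2)
open Cfsg.Agent.Nodes.RGDFoldSL (wS hS coe_wS coe_hS)
open Cfsg.Agent.KFacts.TwESix.NodeCoord (eq_of_zero eq_of_ne_zero hS_mul hS_up)
open Finset

section SL

variable {F : Type*} [Field F]

theorem up_coe (a : F) : (up a).1 = !![1, a; 0, 1] := rfl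
theorem lo_coe (a : F) : (lo a).1 = !![1, 0; a, 1] := rfl

theorem up_add (a b : F) : up (a + b) = up a * up b := by
  apply Subtype.ext
  rw [Matrix.SpecialLinearGroup.coe_mul]
  show !![1, a + b; 0, 1] = !![1, a; 0, 1] * !![1, b; 0, 1]
  ext i j
  fin_cases i <;> fin_cases j <;> simp [add_comm]

theorem up_zero : up (0 : F) = 1 := by
  apply Subtype.ext
  show !![1, (0 : F); 0, 1] = 1
  ext i j
  fin_cases i <;> fin_cases j <;> simp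

theorem up_neg (a : F) : up (-a) = (up a)⁻¹ := by
  rw [eq_inv_iff_mul_eq_one, ← up_add, neg_add_cancel, up_zero]

theorem lo_eq (c : F) : lo c = (wS 1)⁻¹ * up (-c) * wS 1 := by
  have h1 : wS 1 * lo c = up (-c) * wS 1 := by
    apply Subtype.ext
    rw [Matrix.SpecialLinearGroup.coe_mul, Matrix.SpecialLinearGroup.coe_mul, coe_wS one_ne_zero]
    show !![0, 1; -(1 : F)⁻¹, 0] * !![1, 0; c, 1] = !![1, -c; 0, 1] * !![0, 1; -(1 : F)⁻¹, 0]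
    ext i j
    fin_cases i <;> fin_cases j <;> simp
  rw [mul_assoc, ← h1, inv_mul_cancel_left]

/-- `w · up a · w = up (-a⁻¹) · w · (upper triangular)` -/
theorem w_up_w {a : F} (ha : a ≠ 0) :
    wS 1 * up a * wS 1 = up (-a⁻¹) * wS 1 * (hS (-a) * up (-a⁻¹)) := by
  apply Subtype.ext
  simp only [Matrix.SpecialLinearGroup.coe_mul]
  rw [coe_wS one_ne_zero, coe_hS (neg_ne_zero.2 ha)]
  show !![0, 1; -(1 : F)⁻¹, 0] * !![1, a; 0, 1] * !![0, 1; -(1 : F)⁻¹, 0] =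
    !![1, -a⁻¹; 0, 1] * !![0, 1; -(1 : F)⁻¹, 0] * (!![-a, 0; 0, (-a)⁻¹] * !![1, -a⁻¹; 0, 1])
  ext i j
  fin_cases i <;> fin_cases j <;> (simp; try field_simp; try simp)

/-- `w · up a · w⁻¹ = up (-a⁻¹) · w · hS a · up (-a⁻¹)` -/
theorem w_up_winv {a : F} (ha : a ≠ 0) :
    wS 1 * up a * (wS 1)⁻¹ = up (-a⁻¹) * wS 1 * (hS a * up (-a⁻¹)) := by
  rw [mul_inv_eq_iff_eq_mul]
  apply Subtype.ext
  simp only [Matrix.SpecialLinearGroup.coe_mul]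
  rw [coe_wS one_ne_zero, coe_hS ha]
  show !![0, 1; -(1 : F)⁻¹, 0] * !![1, a; 0, 1] =
    !![1, -a⁻¹; 0, 1] * !![0, 1; -(1 : F)⁻¹, 0] * (!![a, 0; 0, a⁻¹] * !![1, -a⁻¹; 0, 1]) * !![0, 1; -(1 : F)⁻¹, 0]
  ext i j
  fin_cases i <;> fin_cases j <;> (simp; try field_simp; try simp)

theorem w_hS {c : F} (hc : c ≠ 0) : wS 1 * hS c = hS c⁻¹ * wS 1 := by
  apply Subtype.ext
  simp only [Matrix.SpecialLinearGroup.coe_mul]
  rw [coe_wS one_ne_zero, coe_hS hc, coe_hS (inv_ne_zero hc)]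
  ext i j
  fin_cases i <;> fin_cases j <;> simp

theorem w_sq : wS 1 * wS 1 = hS (-1 : F) := by
  apply Subtype.ext
  simp only [Matrix.SpecialLinearGroup.coe_mul]
  rw [coe_wS one_ne_zero, coe_hS (neg_ne_zero.2 one_ne_zero)]
  ext i j
  fin_cases i <;> fin_cases j <;> simp

theorem hS_one : hS (1 : F) = 1 := by
  apply Subtype.ext
  rw [coe_hS one_ne_zero]
  ext i j
  fin_cases i <;> fin_cases j <;> simp

theorem hS_inv {c : F} (hc : c ≠ 0) : (hS c)⁻¹ = hS c⁻¹ := by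
  rw [inv_eq_iff_mul_eq_one, ← hS_mul hc (inv_ne_zero hc), mul_inv_cancel₀ hc, hS_one]

theorem neg_one_comm (g : Matrix.SpecialLinearGroup (Fin 2) F) : hS (-1 : F) * g = g * hS (-1) := by
  apply Subtype.ext
  simp only [Matrix.SpecialLinearGroup.coe_mul]
  rw [coe_hS (neg_ne_zero.2 one_ne_zero)]
  ext i j
  fin_cases i <;> fin_cases j <;> simp [Matrix.mul_apply, Fin.sum_univ_two]

/-- no conjugate is upper triangular -/
def Ellip (B : Matrix.SpecialLinearGroup (Fin 2) F) : Prop := ∀ C : Matrix.SpecialLinearGroup (Fin 2) F, (C⁻¹ * B * C).1 1 0 ≠ 0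

end SL

section Alg

variable {F : Type*} [Field F] [Fintype F] [DecidableEq F] {A : Type*} [Ring A] [Algebra ℂ A]
  (ψ : Matrix.SpecialLinearGroup (Fin 2) F →* A) (ε : A)

theorem sum_units {B : Type*} [AddCommMonoid B] (f : F → B) : ∑ a : F, f a = f 0 + ∑ c : Fˣ, f c := by
  rw [← Finset.add_sum_erase _ _ (Finset.mem_univ (0 : F))]
  congr 1
  symm
  refine Finset.sum_bij' (fun c _ => (c : F)) (fun a ha => Units.mk0 a (Finset.ne_of_mem_erase ha)) ?_ ?_ ?_ ?_ ?_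
  · intro c _
    exact Finset.mem_erase.2 ⟨c.ne_zero, Finset.mem_univ _⟩
  · intro a _
    exact Finset.mem_univ _
  · intro c _
    exact Units.ext rfl
  · intro a _
    rfl
  · intro c _
    rfl

/-- the number of elements, as a complex number -/
noncomputable def qq (F : Type*) [Fintype F] : ℂ := (Fintype.card F : ℂ)

theorem qq_ne_zero : qq F ≠ 0 := by
  rw [qq, Nat.cast_ne_zero]
  exact Fintype.card_ne_zero

theorem one_lt : 1 < Fintype.card F := Fintype.one_lt_card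

theorem qq_ne_one : qq F ≠ 1 := by
  rw [qq]
  have := one_lt (F := F)
  intro h
  have h1 : Fintype.card F = 1 := by exact_mod_cast h
  omega

theorem qq_add_ne : qq F + 1 ≠ 0 := by
  rw [qq]
  exact Nat.cast_add_one_ne_zero _

/-- average over the upper unipotent group -/
noncomputable def eX : A := (qq F)⁻¹ • ∑ a : F, ψ (up a)
/-- the projection onto the fixed points of the upper unipotent group in the image of `ε` -/
noncomputable def uu : A := eX ψ * ε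
noncomputable def Zt (a : F) : A := ψ (up a * wS 1) * uu ψ ε * ψ (up a * wS 1)⁻¹
noncomputable def ZZ : A := uu ψ ε + ∑ a : F, Zt ψ ε a
noncomputable def th : A := uu ψ ε * ψ (wS 1) * uu ψ ε
noncomputable def eta : A := (qq F - 1)⁻¹ • ∑ c : Fˣ, ψ (hS (c : F))

theorem sum_up : ∑ a : F, ψ (up a) = qq F • eX ψ := by
  rw [eX, smul_smul, mul_inv_cancel₀ qq_ne_zero, one_smul]

theorem sum_hS : ∑ c : Fˣ, ψ (hS (c : F)) = (qq F - 1) • eta ψ := by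
  rw [eta, smul_smul, mul_inv_cancel₀ (sub_ne_zero.2 qq_ne_one), one_smul]

theorem up_eX (b : F) : ψ (up b) * eX ψ = eX ψ := by
  rw [eX, mul_smul_comm, Finset.mul_sum]
  congr 1
  rw [← Equiv.sum_comp (Equiv.addLeft b) (fun a => ψ (up a))]
  exact Finset.sum_congr rfl fun a _ => by rw [← map_mul, ← up_add]; rfl

theorem eX_up (b : F) : eX ψ * ψ (up b) = eX ψ := by
  rw [eX, smul_mul_assoc, Finset.sum_mul]
  congr 1
  rw [← Equiv.sum_comp (Equiv.addRight b) (fun a => ψ (up a))]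
  exact Finset.sum_congr rfl fun a _ => by rw [← map_mul, ← up_add]; rfl

theorem eX_eX : eX ψ * eX ψ = eX ψ := by
  have h1 : ∑ a : F, eX ψ * ψ (up a) = (Fintype.card F : ℕ) • eX ψ := by
    rw [Finset.sum_congr rfl fun a _ => eX_up ψ a, Finset.sum_const, Finset.card_univ]
  conv_lhs => rw [show eX ψ * eX ψ = eX ψ * ((qq F)⁻¹ • ∑ a : F, ψ (up a)) from rfl]
  rw [mul_smul_comm, Finset.mul_sum, h1, ← Nat.cast_smul_eq_nsmul ℂ, smul_smul]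
  have h2 : (qq F)⁻¹ * (Fintype.card F : ℂ) = 1 := inv_mul_cancel₀ qq_ne_zero
  rw [h2, one_smul]

theorem hS_eX {c : F} (hc : c ≠ 0) : ψ (hS c) * eX ψ = eX ψ * ψ (hS c) := by
  rw [eX, mul_smul_comm, smul_mul_assoc, Finset.mul_sum, Finset.sum_mul]
  congr 1
  have hc2 : c ^ 2 ≠ 0 := pow_ne_zero 2 hc
  rw [← Equiv.sum_comp (Equiv.mulLeft₀ (c ^ 2) hc2) (fun a => ψ (up a) * ψ (hS c))]
  refine Finset.sum_congr rfl fun a _ => ?_
  show _ = ψ (up (c ^ 2 * a)) * ψ (hS c)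
  rw [← hS_up hc, ← map_mul, ← map_mul, inv_mul_cancel_right]

theorem eta_hS {c : F} (hc : c ≠ 0) : eta ψ * ψ (hS c) = eta ψ := by
  rw [eta, smul_mul_assoc, Finset.sum_mul]
  congr 1
  rw [← Equiv.sum_comp (Equiv.mulRight (Units.mk0 c hc)) (fun d => ψ (hS (d : F)))]
  refine Finset.sum_congr rfl fun d _ => ?_
  rw [← map_mul, ← hS_mul d.ne_zero hc]
  rfl

theorem hS_eta {c : F} (hc : c ≠ 0) : ψ (hS c) * eta ψ = eta ψ := by
  rw [eta, mul_smul_comm, Finset.mul_sum]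
  congr 1
  rw [← Equiv.sum_comp (Equiv.mulLeft (Units.mk0 c hc)) (fun d => ψ (hS (d : F)))]
  refine Finset.sum_congr rfl fun d _ => ?_
  rw [← map_mul, ← hS_mul hc d.ne_zero]
  rfl

theorem eta_eta : eta ψ * eta ψ = eta ψ := by
  have h1 : ∑ c : Fˣ, eta ψ * ψ (hS (c : F)) = (Fintype.card Fˣ : ℕ) • eta ψ := by
    rw [Finset.sum_congr rfl fun c _ => eta_hS ψ c.ne_zero, Finset.sum_const, Finset.card_univ]
  conv_lhs => rw [show eta ψ * eta ψ = eta ψ * ((qq F - 1)⁻¹ • ∑ c : Fˣ, ψ (hS (c : F))) from rfl]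
  rw [mul_smul_comm, Finset.mul_sum, h1, ← Nat.cast_smul_eq_nsmul ℂ, smul_smul]
  have h2 : (Fintype.card Fˣ : ℂ) = qq F - 1 := by
    rw [Fintype.card_units, Nat.cast_sub Fintype.card_pos, qq, Nat.cast_one]
  rw [h2, inv_mul_cancel₀ (sub_ne_zero.2 qq_ne_one), one_smul]

theorem w_eta : ψ (wS 1) * eta ψ = eta ψ * ψ (wS 1) := by
  rw [eta, mul_smul_comm, smul_mul_assoc, Finset.mul_sum, Finset.sum_mul]
  congr 1
  rw [← Equiv.sum_comp (Equiv.inv Fˣ) (fun d => ψ (hS (d : F)) * ψ (wS 1))]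
  refine Finset.sum_congr rfl fun d _ => ?_
  rw [← map_mul, ← map_mul, w_hS d.ne_zero]
  simp

/-- commutes with the image -/
theorem comm_eX {τ : A} (hτ : ∀ g, τ * ψ g = ψ g * τ) : τ * eX ψ = eX ψ * τ := by
  rw [eX, mul_smul_comm, smul_mul_assoc, Finset.mul_sum, Finset.sum_mul]
  congr 1
  exact Finset.sum_congr rfl fun a _ => hτ _

theorem comm_eta {τ : A} (hτ : ∀ c : F, c ≠ 0 → τ * ψ (hS c) = ψ (hS c) * τ) : τ * eta ψ = eta ψ * τ := by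
  rw [eta, mul_smul_comm, smul_mul_assoc, Finset.mul_sum, Finset.sum_mul]
  congr 1
  exact Finset.sum_congr rfl fun a _ => hτ _ a.ne_zero

variable {ψ ε} (hεε : ε * ε = ε) (hεc : ∀ g, ε * ψ g = ψ g * ε)

include hεε hεc

theorem uu_eps : uu ψ ε * ε = uu ψ ε := by rw [uu, mul_assoc, hεε]

theorem eps_uu : ε * uu ψ ε = uu ψ ε := by rw [uu, ← mul_assoc, comm_eX ψ hεc, mul_assoc, hεε]

theorem up_uu (b : F) : ψ (up b) * uu ψ ε = uu ψ ε := by rw [uu, ← mul_assoc, up_eX]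

theorem uu_up (b : F) : uu ψ ε * ψ (up b) = uu ψ ε := by rw [uu, mul_assoc, hεc, ← mul_assoc, eX_up]

theorem eX_uu : eX ψ * uu ψ ε = uu ψ ε := by rw [uu, ← mul_assoc, eX_eX]

theorem uu_uu : uu ψ ε * uu ψ ε = uu ψ ε := by
  rw [uu, mul_assoc, ← mul_assoc ε, comm_eX ψ hεc, mul_assoc (eX ψ) ε ε, hεε, ← mul_assoc, eX_eX]

theorem hS_uu {c : F} (hc : c ≠ 0) : ψ (hS c) * uu ψ ε = uu ψ ε * ψ (hS c) := by
  rw [uu, ← mul_assoc, hS_eX ψ hc, mul_assoc, ← hεc, mul_assoc]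

theorem eta_uu : eta ψ * uu ψ ε = uu ψ ε * eta ψ :=
  (comm_eta ψ fun _ hc => (hS_uu hεε hεc hc).symm).symm

/-- conjugates of `u` -/
theorem conj_uu {g x x' D : Matrix.SpecialLinearGroup (Fin 2) F} (h : g * x = x' * D)
    (hD : ψ D * uu ψ ε = uu ψ ε * ψ D) :
    ψ g * (ψ x * uu ψ ε * ψ x⁻¹) = ψ x' * uu ψ ε * ψ x'⁻¹ * ψ g := by
  have h1 : D * x⁻¹ = x'⁻¹ * g := by
    rw [mul_inv_eq_iff_eq_mul, mul_assoc, h, inv_mul_cancel_left]
  calc ψ g * (ψ x * uu ψ ε * ψ x⁻¹) = ψ (g * x) * uu ψ ε * ψ x⁻¹ := by rw [map_mul]; simp only [mul_assoc]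
    _ = ψ x' * (ψ D * uu ψ ε) * ψ x⁻¹ := by rw [h, map_mul]; simp only [mul_assoc]
    _ = ψ x' * uu ψ ε * ψ (D * x⁻¹) := by rw [hD, map_mul]; simp only [mul_assoc]
    _ = _ := by rw [h1, map_mul]; simp only [mul_assoc]

theorem comm_tri {c : F} (hc : c ≠ 0) (b : F) : ψ (hS c * up b) * uu ψ ε = uu ψ ε * ψ (hS c * up b) := by
  rw [map_mul, mul_assoc, up_uu hεε hεc, hS_uu hεε hεc hc, ← mul_assoc, ← hS_uu hεε hεc hc, mul_assoc,
    uu_up hεε hεc, hS_uu hεε hεc hc]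

theorem ZZ_up (b : F) : ψ (up b) * ZZ ψ ε = ZZ ψ ε * ψ (up b) := by
  rw [ZZ, mul_add, add_mul, up_uu hεε hεc, uu_up hεε hεc, Finset.mul_sum, Finset.sum_mul]
  congr 1
  rw [← Equiv.sum_comp (Equiv.addLeft b) (fun a => Zt ψ ε a * ψ (up b))]
  refine Finset.sum_congr rfl fun a _ => ?_
  show ψ (up b) * Zt ψ ε a = Zt ψ ε (b + a) * ψ (up b)
  exact conj_uu hεε hεc (x := up a * wS 1) (x' := up (b + a) * wS 1) (D := 1)
    (by rw [mul_one, up_add, mul_assoc]) (by rw [map_one, one_mul, mul_one])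

theorem Zt_zero : Zt ψ ε 0 = ψ (wS 1) * uu ψ ε * ψ (wS 1)⁻¹ := by rw [Zt, up_zero, one_mul]

theorem ZZ_w : ψ (wS 1) * ZZ ψ ε = ZZ ψ ε * ψ (wS 1) := by
  rw [ZZ, sum_units]
  have h1 : ψ (wS 1) * uu ψ ε = Zt ψ ε 0 * ψ (wS 1) := by
    rw [Zt_zero hεε hεc, mul_assoc, ← map_mul, inv_mul_cancel, map_one, mul_one]
  have h2 : ψ (wS 1) * Zt ψ ε 0 = uu ψ ε * ψ (wS 1) := by
    have h3 := conj_uu (ψ := ψ) (ε := ε) hεε hεc (g := wS 1) (x := wS 1) (x' := 1) (D := hS (-1))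
      (by rw [one_mul, w_sq]) (hS_uu hεε hεc (neg_ne_zero.2 one_ne_zero))
    rw [Zt_zero hεε hεc, h3, map_one, one_mul, inv_one, map_one, mul_one]
  have h3 : ∀ c : Fˣ, ψ (wS 1) * Zt ψ ε (c : F) = Zt ψ ε ((-c⁻¹ : Fˣ) : F) * ψ (wS 1) := by
    intro c
    have h4 : (((-c⁻¹ : Fˣ)) : F) = -(c : F)⁻¹ := by simp
    rw [h4]
    exact conj_uu hεε hεc (x := up (c : F) * wS 1) (x' := up (-(c : F)⁻¹) * wS 1) (D := hS (-(c : F)) * up (-(c : F)⁻¹))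
      (by rw [← mul_assoc, w_up_w c.ne_zero]) (comm_tri hεε hεc (neg_ne_zero.2 c.ne_zero) _)
  have h4 : ψ (wS 1) * ∑ c : Fˣ, Zt ψ ε (c : F) = (∑ c : Fˣ, Zt ψ ε (c : F)) * ψ (wS 1) := by
    rw [Finset.mul_sum, Finset.sum_mul, Finset.sum_congr rfl fun c _ => h3 c]
    exact Equiv.sum_comp ((Equiv.inv Fˣ).trans (Equiv.neg Fˣ)) (fun c => Zt ψ ε (c : F) * ψ (wS 1))
  rw [mul_add, mul_add, add_mul, add_mul, h1, h2, h4]
  abel

theorem ZZ_comm (g : Matrix.SpecialLinearGroup (Fin 2) F) : ZZ ψ ε * ψ g = ψ g * ZZ ψ ε := by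
  have h1 : ∀ g, ψ g * ZZ ψ ε = ZZ ψ ε * ψ g → ψ g⁻¹ * ZZ ψ ε = ZZ ψ ε * ψ g⁻¹ := by
    intro g hg
    calc ψ g⁻¹ * ZZ ψ ε = ψ g⁻¹ * (ZZ ψ ε * ψ g) * ψ g⁻¹ := by
          rw [mul_assoc, mul_assoc, ← map_mul ψ g, mul_inv_cancel, map_one, mul_one]
      _ = _ := by rw [← hg, ← mul_assoc, ← map_mul, inv_mul_cancel, map_one, one_mul]
  have h2 := mem_closure_SL2 g
  induction h2 using Subgroup.closure_induction with
  | mem x hx =>
    rcases hx with ⟨a, rfl⟩ | ⟨a, rfl⟩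
    · exact (ZZ_up hεε hεc a).symm
    · have h3 := h1 _ (ZZ_w (ψ := ψ) hεε hεc)
      rw [lo_eq, map_mul, map_mul, ← mul_assoc, ← mul_assoc, ← h3, mul_assoc _ (ZZ ψ ε), ← ZZ_up hεε hεc,
        mul_assoc, mul_assoc, mul_assoc, ← ZZ_w hεε hεc]
      simp only [mul_assoc]
  | one => rw [map_one, one_mul, mul_one]
  | mul x y _ _ hx hy => rw [map_mul, ← mul_assoc, hx, mul_assoc, hy, ← mul_assoc]
  | inv x _ hx => exact (h1 x hx.symm).symm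


omit [Fintype F] [DecidableEq F] hεε hεc in
theorem one_smul_qq_add {q : ℂ} (x : A) : x + (q - 1) • x = q • x := by module

theorem th_eq : th ψ ε = uu ψ ε * ψ (wS 1) * uu ψ ε := rfl

theorem uu_th : uu ψ ε * th ψ ε = th ψ ε := by rw [th, ← mul_assoc, ← mul_assoc, uu_uu hεε hεc]
theorem th_uu : th ψ ε * uu ψ ε = th ψ ε := by rw [th, mul_assoc, uu_uu hεε hεc]

theorem th_hS {c : F} (hc : c ≠ 0) : uu ψ ε * ψ (wS 1) * (ψ (hS c) * uu ψ ε) = th ψ ε * ψ (hS c) := by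
  rw [hS_uu hεε hεc hc, th, mul_assoc, mul_assoc, mul_assoc]

theorem th_eta : th ψ ε * eta ψ = eta ψ * th ψ ε := by
  rw [th, mul_assoc, ← eta_uu hεε hεc, ← mul_assoc, mul_assoc (uu ψ ε), w_eta, ← mul_assoc, ← eta_uu hεε hεc,
    mul_assoc, mul_assoc, mul_assoc]

/-- `θ θ'` -/
theorem th_th' : uu ψ ε * ψ (wS 1) * uu ψ ε * ψ (wS 1)⁻¹ * uu ψ ε =
    (qq F)⁻¹ • (uu ψ ε + (qq F - 1) • (th ψ ε * eta ψ)) := by
  have h1 : uu ψ ε * ψ (wS 1) * uu ψ ε * ψ (wS 1)⁻¹ * uu ψ ε =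
      uu ψ ε * ψ (wS 1) * eX ψ * ψ (wS 1)⁻¹ * uu ψ ε := by
    conv_lhs => rw [show uu ψ ε * ψ (wS 1) * uu ψ ε = uu ψ ε * ψ (wS 1) * (eX ψ * ε) from rfl]
    rw [← mul_assoc, mul_assoc _ ε, hεc, mul_assoc _ _ (uu ψ ε), mul_assoc (ψ _) ε, eps_uu hεε hεc, ← mul_assoc]
  have h2 : uu ψ ε * ψ (wS 1) * eX ψ * ψ (wS 1)⁻¹ * uu ψ ε =
      (qq F)⁻¹ • ∑ a : F, uu ψ ε * ψ (wS 1 * up a * (wS 1)⁻¹) * uu ψ ε := by
    rw [eX, mul_smul_comm, smul_mul_assoc, smul_mul_assoc, Finset.mul_sum, Finset.sum_mul, Finset.sum_mul]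
    congr 1
    refine Finset.sum_congr rfl fun a _ => ?_
    rw [map_mul, map_mul]
    simp only [mul_assoc]
  rw [h1, h2, sum_units]
  congr 1
  congr 1
  · rw [up_zero, mul_one, mul_inv_cancel, map_one, mul_one, uu_uu hεε hεc]
  · rw [← mul_smul_comm, ← sum_hS, Finset.mul_sum]
    refine Finset.sum_congr rfl fun c _ => ?_
    rw [w_up_winv c.ne_zero, map_mul, map_mul, map_mul, ← th_hS hεε hεc c.ne_zero]
    calc uu ψ ε * (ψ (up (-(c : F)⁻¹)) * ψ (wS 1) * (ψ (hS (c : F)) * ψ (up (-(c : F)⁻¹)))) * uu ψ ε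
        = (uu ψ ε * ψ (up (-(c : F)⁻¹))) * ψ (wS 1) * (ψ (hS (c : F)) * (ψ (up (-(c : F)⁻¹)) * uu ψ ε)) := by
          simp only [mul_assoc]
      _ = _ := by rw [uu_up hεε hεc, up_uu hεε hεc]

/-- `Z u = 2 u + (q - 1) θ η` -/
theorem ZZ_uu : ZZ ψ ε * uu ψ ε = (2 : ℂ) • uu ψ ε + (qq F - 1) • (th ψ ε * eta ψ) := by
  have h1 : ∀ a : F, Zt ψ ε a * uu ψ ε = ψ (up a) * (ψ (wS 1) * uu ψ ε * ψ (wS 1)⁻¹ * uu ψ ε) := by
    intro a
    rw [Zt, mul_inv_rev, map_mul, map_mul, ← up_neg]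
    calc ψ (up a) * ψ (wS 1) * uu ψ ε * (ψ (wS 1)⁻¹ * ψ (up (-a))) * uu ψ ε =
        ψ (up a) * (ψ (wS 1) * uu ψ ε * ψ (wS 1)⁻¹ * (ψ (up (-a)) * uu ψ ε)) := by simp only [mul_assoc]
      _ = _ := by rw [up_uu hεε hεc]
  have h2 : eX ψ * (ψ (wS 1) * uu ψ ε * ψ (wS 1)⁻¹ * uu ψ ε) = uu ψ ε * ψ (wS 1) * uu ψ ε * ψ (wS 1)⁻¹ * uu ψ ε := by
    have h3 : ψ (wS 1) * uu ψ ε = ε * (ψ (wS 1) * uu ψ ε) := by
      rw [← mul_assoc, hεc, mul_assoc, eps_uu hεε hεc]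
    rw [h3]
    conv_rhs => rw [mul_assoc, mul_assoc, mul_assoc]
    rw [show uu ψ ε * (ψ (wS 1) * (uu ψ ε * (ψ (wS 1)⁻¹ * uu ψ ε))) =
      eX ψ * ε * (ψ (wS 1) * (uu ψ ε * (ψ (wS 1)⁻¹ * uu ψ ε))) from rfl]
    simp only [mul_assoc]
  rw [ZZ, add_mul, uu_uu hεε hεc, Finset.sum_mul, Finset.sum_congr rfl fun a _ => h1 a, ← Finset.sum_mul, sum_up,
    smul_mul_assoc, h2, th_th' hεε hεc, smul_smul, mul_inv_cancel₀ qq_ne_zero, one_smul]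
  module

/-- the quadratic relation -/
theorem th_quad : th ψ ε * th ψ ε * eta ψ = (qq F)⁻¹ • (uu ψ ε * eta ψ + (qq F - 1) • (th ψ ε * eta ψ)) := by
  have h1 := congrArg (fun x => x * eta ψ) (th_th' hεε hεc)
  simp only [smul_mul_assoc, add_mul] at h1
  rw [mul_assoc (th ψ ε), eta_eta] at h1
  rw [← h1]
  have h2 : ψ (wS 1) * (uu ψ ε * eta ψ) = ψ (wS 1)⁻¹ * (uu ψ ε * eta ψ) := by
    have h3 : (wS 1 : Matrix.SpecialLinearGroup (Fin 2) F) = (wS 1)⁻¹ * hS (-1) := by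
      rw [← w_sq, inv_mul_cancel_left]
    conv_lhs => rw [h3]
    rw [map_mul, mul_assoc, ← eta_uu hεε hεc, ← mul_assoc (ψ (hS (-1))), hS_eta ψ (neg_ne_zero.2 one_ne_zero)]
  rw [th]
  calc uu ψ ε * ψ (wS 1) * uu ψ ε * (uu ψ ε * ψ (wS 1) * uu ψ ε) * eta ψ =
      uu ψ ε * ψ (wS 1) * (uu ψ ε * uu ψ ε) * (ψ (wS 1) * (uu ψ ε * eta ψ)) := by simp only [mul_assoc]
    _ = _ := by rw [uu_uu hεε hεc, h2]; simp only [mul_assoc]

variable (ψ ε)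

omit hεε hεc in
/-- the projection onto the eigenvalue 1 of `θ` -/
noncomputable def piA : A := (qq F + 1)⁻¹ • (qq F • (th ψ ε * eta ψ) + uu ψ ε * eta ψ)
omit hεε hεc in
/-- the projection onto the eigenvalue `-1/q` of `θ` -/
noncomputable def piS : A := (qq F + 1)⁻¹ • (qq F • (uu ψ ε * eta ψ - th ψ ε * eta ψ))
omit hεε hεc in
noncomputable def piP : A := uu ψ ε - uu ψ ε * eta ψ

variable {ψ ε}

omit hεε hεc in
theorem pi_sum : piA ψ ε + piS ψ ε + piP ψ ε = uu ψ ε := by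
  rw [piA, piS, piP]
  have := qq_add_ne (F := F)
  match_scalars <;> field_simp <;> ring

theorem eta_piA : eta ψ * piA ψ ε = piA ψ ε := by
  rw [piA, mul_smul_comm, mul_add, mul_smul_comm, ← mul_assoc, ← mul_assoc, ← th_eta hεε hεc, mul_assoc, eta_eta,
    eta_uu hεε hεc, mul_assoc, eta_eta]

theorem eta_piS : eta ψ * piS ψ ε = piS ψ ε := by
  rw [piS, mul_smul_comm, mul_smul_comm, mul_sub, ← mul_assoc, ← mul_assoc, ← th_eta hεε hεc, mul_assoc (th ψ ε),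
    eta_eta, eta_uu hεε hεc, mul_assoc, eta_eta]

theorem eta_piP : eta ψ * piP ψ ε = 0 := by
  rw [piP, mul_sub, ← mul_assoc, eta_uu hεε hεc, mul_assoc, eta_eta, sub_self]

theorem uu_piA : uu ψ ε * piA ψ ε = piA ψ ε := by
  rw [piA, mul_smul_comm, mul_add, mul_smul_comm, ← mul_assoc, ← mul_assoc, uu_th hεε hεc, uu_uu hεε hεc]
theorem uu_piS : uu ψ ε * piS ψ ε = piS ψ ε := by
  rw [piS, mul_smul_comm, mul_smul_comm, mul_sub, ← mul_assoc, ← mul_assoc, uu_th hεε hεc, uu_uu hεε hεc]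
theorem uu_piP : uu ψ ε * piP ψ ε = piP ψ ε := by
  rw [piP, mul_sub, ← mul_assoc, uu_uu hεε hεc]

theorem piA_uu : piA ψ ε * uu ψ ε = piA ψ ε := by
  rw [piA, smul_mul_assoc, add_mul, smul_mul_assoc, mul_assoc, mul_assoc, eta_uu hεε hεc, ← mul_assoc, ← mul_assoc,
    th_uu hεε hεc, uu_uu hεε hεc]
theorem piS_uu : piS ψ ε * uu ψ ε = piS ψ ε := by
  rw [piS, smul_mul_assoc, smul_mul_assoc, sub_mul, mul_assoc, mul_assoc, eta_uu hεε hεc, ← mul_assoc, ← mul_assoc,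
    th_uu hεε hεc, uu_uu hεε hεc]
theorem piP_uu : piP ψ ε * uu ψ ε = piP ψ ε := by
  rw [piP, sub_mul, mul_assoc, eta_uu hεε hεc, ← mul_assoc, uu_uu hεε hεc]

theorem th_th_eta : th ψ ε * (th ψ ε * eta ψ) = (qq F)⁻¹ • (uu ψ ε * eta ψ + (qq F - 1) • (th ψ ε * eta ψ)) := by
  rw [← mul_assoc, th_quad hεε hεc]

theorem th_piA : th ψ ε * piA ψ ε = piA ψ ε := by
  rw [piA, mul_smul_comm, mul_add, mul_smul_comm, th_th_eta hεε hεc, ← mul_assoc (th ψ ε) (uu ψ ε), th_uu hεε hεc]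
  have h1 := qq_add_ne (F := F)
  have h2 := qq_ne_zero (F := F)
  match_scalars <;> field_simp <;> ring

theorem th_piS : th ψ ε * piS ψ ε = (-(qq F)⁻¹) • piS ψ ε := by
  rw [piS, mul_smul_comm, mul_smul_comm, mul_sub, th_th_eta hεε hεc, ← mul_assoc (th ψ ε) (uu ψ ε), th_uu hεε hεc]
  have h1 := qq_add_ne (F := F)
  have h2 := qq_ne_zero (F := F)
  match_scalars <;> field_simp <;> ring

theorem ZZ_piA : ZZ ψ ε * piA ψ ε = (qq F + 1) • piA ψ ε := by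
  conv_lhs => rw [← uu_piA hεε hεc]
  rw [← mul_assoc, ZZ_uu hεε hεc, add_mul, smul_mul_assoc, smul_mul_assoc, uu_piA hεε hεc, mul_assoc,
    eta_piA hεε hεc, th_piA hεε hεc]
  module

theorem ZZ_piS : ZZ ψ ε * piS ψ ε = (1 + (qq F)⁻¹) • piS ψ ε := by
  conv_lhs => rw [← uu_piS hεε hεc]
  rw [← mul_assoc, ZZ_uu hεε hεc, add_mul, smul_mul_assoc, smul_mul_assoc, uu_piS hεε hεc, mul_assoc,
    eta_piS hεε hεc, th_piS hεε hεc]
  have h2 := qq_ne_zero (F := F)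
  match_scalars
  field_simp
  ring

theorem ZZ_piP : ZZ ψ ε * piP ψ ε = (2 : ℂ) • piP ψ ε := by
  conv_lhs => rw [← uu_piP hεε hεc]
  rw [← mul_assoc, ZZ_uu hεε hεc, add_mul, smul_mul_assoc, smul_mul_assoc, uu_piP hεε hεc, mul_assoc,
    eta_piP hεε hεc, mul_zero, smul_zero, add_zero]

theorem ZZ_pow_uu (k : ℕ) : ZZ ψ ε ^ k * uu ψ ε =
    (qq F + 1) ^ k • piA ψ ε + (1 + (qq F)⁻¹) ^ k • piS ψ ε + (2 : ℂ) ^ k • piP ψ ε := by
  induction k with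
  | zero => rw [pow_zero, one_mul, pow_zero, pow_zero, pow_zero, one_smul, one_smul, one_smul, pi_sum]
  | succ k ih =>
    rw [pow_succ', mul_assoc, ih, mul_add, mul_add, mul_smul_comm, mul_smul_comm, mul_smul_comm, ZZ_piA hεε hεc,
      ZZ_piS hεε hεc, ZZ_piP hεε hεc]
    module

theorem ZZ_pow_comm (k : ℕ) (g : Matrix.SpecialLinearGroup (Fin 2) F) :
    ZZ ψ ε ^ k * ψ g = ψ g * ZZ ψ ε ^ k := by
  have h1 : Commute (ZZ ψ ε) (ψ g) := ZZ_comm hεε hεc g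
  exact h1.pow_left k

omit [DecidableEq F] hεε hεc in
theorem recur {F0 F1 F2 F3 a s p c1 c2 : ℂ} (h1 : c1 ≠ 0) (h2 : c2 ≠ 0) {Q : ℂ}
    (e1 : F1 = Q * (a + s + p)) (e2 : F2 = Q * (c1 * a + c2 * s + 2 * p))
    (e3 : F3 = Q * (c1 ^ 2 * a + c2 ^ 2 * s + 4 * p))
    (e : F3 - (c1 + c2 + 2) * F2 + (c1 * c2 + 2 * c1 + 2 * c2) * F1 - 2 * c1 * c2 * F0 = 0) :
    F0 = Q * (a / c1 + s / c2 + p / 2) := by
  subst e1 e2 e3
  have h3 : 2 * c1 * c2 * F0 = 2 * c1 * c2 * (Q * (a / c1 + s / c2 + p / 2)) := by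
    field_simp
    linear_combination -e
  exact mul_left_cancel₀ (mul_ne_zero (mul_ne_zero two_ne_zero h1) h2) h3

/-- the cubic relation -/
theorem cubic (hgen : ∀ y : A, (∀ g, y * (ψ g * uu ψ ε) = 0) → y * ε = 0) :
    ZZ ψ ε ^ 3 * ε - (qq F + 1 + (1 + (qq F)⁻¹) + 2) • (ZZ ψ ε ^ 2 * ε) +
      ((qq F + 1) * (1 + (qq F)⁻¹) + 2 * (qq F + 1) + 2 * (1 + (qq F)⁻¹)) • (ZZ ψ ε * ε) -
      (2 * (qq F + 1) * (1 + (qq F)⁻¹)) • ε = 0 := by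
  have h1 := hgen (ZZ ψ ε ^ 3 - (qq F + 1 + (1 + (qq F)⁻¹) + 2) • ZZ ψ ε ^ 2 +
      ((qq F + 1) * (1 + (qq F)⁻¹) + 2 * (qq F + 1) + 2 * (1 + (qq F)⁻¹)) • ZZ ψ ε ^ 1 -
      (2 * (qq F + 1) * (1 + (qq F)⁻¹)) • ZZ ψ ε ^ 0) ?_
  · rw [← h1]
    simp only [sub_mul, add_mul, smul_mul_assoc, pow_one, pow_zero, one_mul]
  · intro g
    simp only [sub_mul, add_mul, smul_mul_assoc, ← mul_assoc, ZZ_pow_comm hεε hεc]
    simp only [mul_assoc, ZZ_pow_uu hεε hεc]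
    simp only [← mul_smul_comm, ← mul_add, ← mul_sub]
    convert mul_zero (ψ g) using 2
    match_scalars <;> ring


theorem ZZ_eps : ZZ ψ ε * ε = ZZ ψ ε := by
  rw [ZZ, add_mul, uu_eps hεε hεc, Finset.sum_mul]
  congr 1
  refine Finset.sum_congr rfl fun a _ => ?_
  rw [Zt, mul_assoc, ← hεc, ← mul_assoc, mul_assoc (ψ _) (uu ψ ε) ε, uu_eps hεε hεc]

section Trace

variable (tr : A →ₗ[ℂ] ℂ) (htr : ∀ x y, tr (x * y) = tr (y * x)) {τ : A} (hτ : ∀ g, τ * ψ g = ψ g * τ)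

include htr hτ

theorem tr_conj (k : ℕ) (B x : Matrix.SpecialLinearGroup (Fin 2) F) :
    tr (τ * ψ B * ZZ ψ ε ^ k * (ψ x * uu ψ ε * ψ x⁻¹)) = tr (τ * ψ (x⁻¹ * B * x) * (ZZ ψ ε ^ k * uu ψ ε)) := by
  rw [← mul_assoc, htr]
  congr 1
  calc ψ x⁻¹ * (τ * ψ B * ZZ ψ ε ^ k * (ψ x * uu ψ ε)) =
      (ψ x⁻¹ * τ) * ψ B * (ZZ ψ ε ^ k * ψ x) * uu ψ ε := by simp only [mul_assoc]
    _ = _ := by rw [← hτ, ZZ_pow_comm hεε hεc, map_mul, map_mul]; simp only [mul_assoc]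

theorem tr_succ (k : ℕ) (B : Matrix.SpecialLinearGroup (Fin 2) F) :
    tr (τ * ψ B * (ZZ ψ ε ^ (k + 1) * ε)) = tr (τ * ψ B * (ZZ ψ ε ^ k * uu ψ ε)) +
      ∑ a : F, tr (τ * ψ ((up a * wS 1)⁻¹ * B * (up a * wS 1)) * (ZZ ψ ε ^ k * uu ψ ε)) := by
  rw [pow_succ, mul_assoc (ZZ ψ ε ^ k), ZZ_eps hεε hεc]
  conv_lhs => rw [show ZZ ψ ε ^ k * ZZ ψ ε = ZZ ψ ε ^ k * (uu ψ ε + ∑ a : F, Zt ψ ε a) from rfl]
  rw [mul_add, mul_add, map_add, Finset.mul_sum, Finset.mul_sum, map_sum]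
  congr 1
  refine Finset.sum_congr rfl fun a _ => ?_
  rw [← tr_conj hεε hεc tr htr hτ, Zt]
  simp only [mul_assoc]

theorem tr_expand (k : ℕ) (B : Matrix.SpecialLinearGroup (Fin 2) F) :
    tr (τ * ψ B * (ZZ ψ ε ^ k * uu ψ ε)) = (qq F + 1) ^ k * tr (τ * ψ B * piA ψ ε) +
      (1 + (qq F)⁻¹) ^ k * tr (τ * ψ B * piS ψ ε) + (2 : ℂ) ^ k * tr (τ * ψ B * piP ψ ε) := by
  rw [ZZ_pow_uu hεε hεc, mul_add, mul_add, mul_smul_comm, mul_smul_comm, mul_smul_comm, map_add, map_add,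
    map_smul, map_smul, map_smul, smul_eq_mul, smul_eq_mul, smul_eq_mul]

variable (hτε : τ * ε = ε * τ)

include hτε

theorem tr_reduce {π : A} (h1 : uu ψ ε * π = π) (h2 : π * uu ψ ε = π) {B : Matrix.SpecialLinearGroup (Fin 2) F}
    (hB : B.1 1 0 ≠ 0) : ∃ c : F, c ≠ 0 ∧ tr (τ * ψ B * π) = tr (τ * (ψ (hS c) * (th ψ ε * π))) := by
  have hc : -(B.1 1 0)⁻¹ ≠ 0 := neg_ne_zero.2 (inv_ne_zero hB)
  refine ⟨_, hc, ?_⟩
  have hτu : τ * uu ψ ε = uu ψ ε * τ := by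
    rw [uu, ← mul_assoc, comm_eX ψ hτ, mul_assoc, hτε, mul_assoc]
  have e := eq_of_ne_zero hB
  have h3 : uu ψ ε * ψ B * uu ψ ε = ψ (hS (-(B.1 1 0)⁻¹)) * th ψ ε := by
    conv_lhs => rw [e]
    rw [map_mul, map_mul, map_mul, th]
    calc uu ψ ε * (ψ (up (B.1 0 0 / B.1 1 0)) * (ψ (hS (-(B.1 1 0)⁻¹)) * ψ (wS 1)) * ψ (up (B.1 1 1 / B.1 1 0))) * uu ψ ε
        = (uu ψ ε * ψ (up (B.1 0 0 / B.1 1 0))) * (ψ (hS (-(B.1 1 0)⁻¹)) * ψ (wS 1)) *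
          (ψ (up (B.1 1 1 / B.1 1 0)) * uu ψ ε) := by simp only [mul_assoc]
      _ = (uu ψ ε * ψ (hS (-(B.1 1 0)⁻¹))) * ψ (wS 1) * uu ψ ε := by
          rw [uu_up hεε hεc, up_uu hεε hεc]; simp only [mul_assoc]
      _ = _ := by rw [← hS_uu hεε hεc hc]; simp only [mul_assoc]
  calc tr (τ * ψ B * π) = tr (τ * ψ B * (uu ψ ε * π * uu ψ ε)) := by rw [h1, h2]
    _ = tr (uu ψ ε * (τ * ψ B * (uu ψ ε * π))) := by rw [← mul_assoc _ _ (uu ψ ε), htr]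
    _ = tr (τ * (uu ψ ε * ψ B * uu ψ ε) * π) := by
        congr 1
        calc uu ψ ε * (τ * ψ B * (uu ψ ε * π)) = (uu ψ ε * τ) * ψ B * (uu ψ ε * π) := by simp only [mul_assoc]
          _ = _ := by rw [← hτu]; simp only [mul_assoc]
    _ = _ := by rw [h3]; simp only [mul_assoc]

theorem tr_piA {B : Matrix.SpecialLinearGroup (Fin 2) F} (hB : B.1 1 0 ≠ 0) :
    tr (τ * ψ B * piA ψ ε) = tr (τ * piA ψ ε) := by
  obtain ⟨c, hc, h⟩ := tr_reduce hεε hεc tr htr hτ hτε (uu_piA hεε hεc) (piA_uu hεε hεc) hB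
  rw [h, th_piA hεε hεc]
  conv_lhs => rw [← eta_piA hεε hεc, ← mul_assoc (ψ _), hS_eta ψ hc, eta_piA hεε hεc]

theorem tr_piS {B : Matrix.SpecialLinearGroup (Fin 2) F} (hB : B.1 1 0 ≠ 0) :
    tr (τ * ψ B * piS ψ ε) = -(qq F)⁻¹ * tr (τ * piS ψ ε) := by
  obtain ⟨c, hc, h⟩ := tr_reduce hεε hεc tr htr hτ hτε (uu_piS hεε hεc) (piS_uu hεε hεc) hB
  rw [h, th_piS hεε hεc]
  have h1 : ψ (hS c) * piS ψ ε = piS ψ ε := by
    conv_lhs => rw [← eta_piS hεε hεc, ← mul_assoc, hS_eta ψ hc, eta_piS hεε hεc]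
  rw [mul_smul_comm, h1, mul_smul_comm, map_smul, smul_eq_mul]

theorem tr_piP (hT : ∀ d : F, d ≠ 0 → ∃ t t' : A, t * t' = 1 ∧ t' * t = 1 ∧ t * τ = τ * t ∧
      (∀ c : F, c ≠ 0 → t * ψ (hS c) = ψ (hS c) * t) ∧ t * uu ψ ε = uu ψ ε * t ∧
      t * ψ (wS 1) = ψ (wS 1) * ψ (hS d) * t) {B : Matrix.SpecialLinearGroup (Fin 2) F} (hB : B.1 1 0 ≠ 0) :
    tr (τ * ψ B * piP ψ ε) = 0 := by
  obtain ⟨c, hc, h⟩ := tr_reduce hεε hεc tr htr hτ hτε (uu_piP hεε hεc) (piP_uu hεε hεc) hB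
  rw [h]
  have h1 : ∀ d : Fˣ, tr (τ * (ψ (hS c) * (th ψ ε * piP ψ ε))) =
      tr (τ * (ψ (hS c) * (th ψ ε * (ψ (hS (d : F)) * piP ψ ε)))) := by
    intro d
    obtain ⟨t, t', h2, h3, h4, h5, h6, h7⟩ := hT d d.ne_zero
    have h8 : t * th ψ ε = th ψ ε * ψ (hS (d : F)) * t := by
      rw [th, ← mul_assoc, ← mul_assoc, h6, mul_assoc _ t, h7, ← mul_assoc, ← mul_assoc, mul_assoc _ t, h6,
        ← mul_assoc, mul_assoc (uu ψ ε * ψ (wS 1)), hS_uu hεε hεc d.ne_zero]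
      simp only [mul_assoc]
    have h9 : t * piP ψ ε = piP ψ ε * t := by
      rw [piP, mul_sub, sub_mul, h6, ← mul_assoc, h6, mul_assoc, comm_eta ψ h5, mul_assoc]
    calc tr (τ * (ψ (hS c) * (th ψ ε * piP ψ ε))) = tr (τ * (ψ (hS c) * (th ψ ε * piP ψ ε)) * (t' * t)) := by
          rw [h3, mul_one]
      _ = tr (t * (τ * (ψ (hS c) * (th ψ ε * piP ψ ε)) * t')) := by rw [← mul_assoc, htr]
      _ = tr (τ * (ψ (hS c) * (th ψ ε * (ψ (hS (d : F)) * piP ψ ε)))) := by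
          congr 1
          calc t * (τ * (ψ (hS c) * (th ψ ε * piP ψ ε)) * t') =
              (t * τ) * (ψ (hS c) * (th ψ ε * piP ψ ε)) * t' := by simp only [mul_assoc]
            _ = τ * (t * ψ (hS c)) * (th ψ ε * piP ψ ε) * t' := by rw [h4]; simp only [mul_assoc]
            _ = τ * ψ (hS c) * (t * th ψ ε) * piP ψ ε * t' := by rw [h5 c hc]; simp only [mul_assoc]
            _ = τ * ψ (hS c) * (th ψ ε * ψ (hS (d : F))) * (t * piP ψ ε) * t' := by rw [h8]; simp only [mul_assoc]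
            _ = τ * ψ (hS c) * (th ψ ε * ψ (hS (d : F))) * piP ψ ε * (t * t') := by rw [h9]; simp only [mul_assoc]
            _ = _ := by rw [h2, mul_one]; simp only [mul_assoc]
  have h2 : ∑ d : Fˣ, tr (τ * (ψ (hS c) * (th ψ ε * (ψ (hS (d : F)) * piP ψ ε)))) = 0 := by
    rw [← map_sum, ← Finset.mul_sum, ← Finset.mul_sum, ← Finset.mul_sum, ← Finset.sum_mul, sum_hS, smul_mul_assoc,
      eta_piP hεε hεc, smul_zero, mul_zero, mul_zero, mul_zero, map_zero]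
  rw [← Finset.sum_congr rfl fun d _ => h1 d, Finset.sum_const, nsmul_eq_mul, mul_eq_zero] at h2
  refine h2.resolve_left ?_
  rw [Nat.cast_eq_zero, Finset.card_univ]
  exact Fintype.card_ne_zero

/-- **the trace formula of rank one** -/
theorem trace_elliptic (hgen : ∀ y : A, (∀ g, y * (ψ g * uu ψ ε) = 0) → y * ε = 0)
    (hT : ∀ d : F, d ≠ 0 → ∃ t t' : A, t * t' = 1 ∧ t' * t = 1 ∧ t * τ = τ * t ∧
      (∀ c : F, c ≠ 0 → t * ψ (hS c) = ψ (hS c) * t) ∧ t * uu ψ ε = uu ψ ε * t ∧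
      t * ψ (wS 1) = ψ (wS 1) * ψ (hS d) * t) {B : Matrix.SpecialLinearGroup (Fin 2) F} (hB : Ellip B) :
    tr (τ * ψ B * ε) = tr (τ * piA ψ ε) - tr (τ * piS ψ ε) := by
  have hB0 : B.1 1 0 ≠ 0 := by
    have := hB 1
    rwa [inv_one, one_mul, mul_one] at this
  have h1 : ∀ k : ℕ, tr (τ * ψ B * (ZZ ψ ε ^ (k + 1) * ε)) = (qq F + 1) * ((qq F + 1) ^ k * tr (τ * piA ψ ε) +
      (1 + (qq F)⁻¹) ^ k * (-(qq F)⁻¹ * tr (τ * piS ψ ε)) + (2 : ℂ) ^ k * 0) := by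
    intro k
    rw [tr_succ hεε hεc tr htr hτ, tr_expand hεε hεc tr htr hτ, tr_piA hεε hεc tr htr hτ hτε hB0,
      tr_piS hεε hεc tr htr hτ hτε hB0, tr_piP hεε hεc tr htr hτ hτε hT hB0]
    rw [Finset.sum_congr rfl (g := fun _ => (qq F + 1) ^ k * tr (τ * piA ψ ε) +
      (1 + (qq F)⁻¹) ^ k * (-(qq F)⁻¹ * tr (τ * piS ψ ε)) + (2 : ℂ) ^ k * 0) fun a _ => ?_]
    · rw [Finset.sum_const, Finset.card_univ, nsmul_eq_mul]
      show _ + qq F * _ = _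
      ring
    · rw [tr_expand hεε hεc tr htr hτ, tr_piA hεε hεc tr htr hτ hτε (hB _),
        tr_piS hεε hεc tr htr hτ hτε (hB _), tr_piP hεε hεc tr htr hτ hτε hT (hB _)]
  have h2 := h1 0
  have h3 := h1 1
  have h4 := h1 2
  have hcub := congrArg (fun x => tr (τ * ψ B * x)) (cubic hεε hεc hgen)
  simp only [mul_sub, mul_add, map_sub, map_add, mul_smul_comm, map_smul, smul_eq_mul, mul_zero, map_zero] at hcub
  have hq := qq_ne_zero (F := F)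
  have hq1 := qq_add_ne (F := F)
  have hq2 : 1 + (qq F)⁻¹ ≠ 0 := by
    intro h
    apply hq1
    field_simp at h
    rw [h, mul_zero]
  have h5 := recur (F0 := tr (τ * ψ B * ε)) (F1 := tr (τ * ψ B * (ZZ ψ ε * ε))) (F2 := tr (τ * ψ B * (ZZ ψ ε ^ 2 * ε)))
    (F3 := tr (τ * ψ B * (ZZ ψ ε ^ 3 * ε))) (a := tr (τ * piA ψ ε)) (s := -(qq F)⁻¹ * tr (τ * piS ψ ε)) (p := 0)
    (Q := qq F + 1) hq1 hq2 ?_ ?_ ?_ ?_
  · rw [h5]
    field_simp
    ring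
  · rw [zero_add, pow_one] at h2
    rw [h2]
    ring
  · rw [show 1 + 1 = 2 from rfl] at h3
    rw [h3]
    ring
  · rw [show 2 + 1 = 3 from rfl] at h4
    rw [h4]
    ring
  · rw [← hcub]
    ring

end Trace

/-- **the dimension formula of rank one** -/
theorem trace_eps (tr : A →ₗ[ℂ] ℂ) (htr : ∀ x y, tr (x * y) = tr (y * x))
    (hgen : ∀ y : A, (∀ g, y * (ψ g * uu ψ ε) = 0) → y * ε = 0) :
    tr ε = (qq F + 1) / 2 * tr (uu ψ ε) - (qq F - 1) / 2 * (tr (piA ψ ε) - tr (piS ψ ε)) := by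
  have hτ : ∀ g, (1 : A) * ψ g = ψ g * 1 := fun g => by rw [one_mul, mul_one]
  have h1 : ∀ k : ℕ, tr (ZZ ψ ε ^ (k + 1) * ε) = (qq F + 1) * ((qq F + 1) ^ k * tr (piA ψ ε) +
      (1 + (qq F)⁻¹) ^ k * tr (piS ψ ε) + (2 : ℂ) ^ k * tr (piP ψ ε)) := by
    intro k
    have h2 := tr_succ hεε hεc tr htr hτ k 1
    have h3 := tr_expand hεε hεc tr htr hτ k 1
    simp only [mul_one, inv_mul_cancel, map_one, one_mul] at h2 h3
    rw [h2, h3, Finset.sum_const, Finset.card_univ, nsmul_eq_mul]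
    show _ + qq F * _ = _
    ring
  have h2 := h1 0
  have h3 := h1 1
  have h4 := h1 2
  have hcub := congrArg (fun x => tr x) (cubic hεε hεc hgen)
  simp only [map_sub, map_add, map_smul, smul_eq_mul, map_zero] at hcub
  have hq := qq_ne_zero (F := F)
  have hq1 := qq_add_ne (F := F)
  have hq2 : 1 + (qq F)⁻¹ ≠ 0 := by
    intro h
    apply hq1
    field_simp at h
    rw [h, mul_zero]
  have hs := congrArg (fun x => tr x) (pi_sum (ψ := ψ) (ε := ε))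
  simp only [map_add] at hs
  have h5 := recur (F0 := tr ε) (F1 := tr (ZZ ψ ε * ε)) (F2 := tr (ZZ ψ ε ^ 2 * ε))
    (F3 := tr (ZZ ψ ε ^ 3 * ε)) (a := tr (piA ψ ε)) (s := tr (piS ψ ε)) (p := tr (piP ψ ε))
    (Q := qq F + 1) hq1 hq2 ?_ ?_ ?_ ?_
  · rw [h5, ← hs]
    field_simp
    ring
  · rw [zero_add, pow_one] at h2
    rw [h2]
    ring
  · rw [show 1 + 1 = 2 from rfl] at h3
    rw [h3]
    ring
  · rw [show 2 + 1 = 3 from rfl] at h4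
    rw [h4]
    ring
  · rw [← hcub]

end Alg

end Cfsg.Agent.H866.OZ
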