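import Mathlib
import Cfsg.Agent.H631.Kaw.Avg
import Cfsg.Agent.H631.Kaw.Coef
import Cfsg.Agent.Characters.Central
import Cfsg.Agent.Characters.DegreeBounds
import Cfsg.Agent.H866.OZ.RankOne

/-!
# S4842: averages over subgroups in a representation (helper866)
-/

set_option autoImplicit false
set_option linter.unusedSectionVars false
set_option maxHeartbeats 400000

namespace Cfsg.Agent.H866.OZ

open Cfsg.Agent.H631.Kaw (S left_S S_right S_eq_of_left S_eq_of_right mem_LF comm_of_cj)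
open Cfsg.Agent.Nodes.Reps

section Av

variable {Y : Type*} [Group Y] [Finite Y] {V : Type*} [AddCommGroup V] [Module ℂ V]
  (φ : Y →* Module.End ℂ V)

/-- the average over a subgroup -/
noncomputable def av (H : Subgroup Y) : Module.End ℂ V := (Nat.card H : ℂ)⁻¹ • S φ H

theorem card_ne (H : Subgroup Y) : (Nat.card H : ℂ) ≠ 0 := Nat.cast_ne_zero.2 Nat.card_pos.ne'

theorem mul_av {H : Subgroup Y} {g : Y} (hg : g ∈ H) : φ g * av φ H = av φ H := by
  rw [av, mul_smul_comm, left_S φ hg]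

theorem av_mul {H : Subgroup Y} {g : Y} (hg : g ∈ H) : av φ H * φ g = av φ H := by
  rw [av, smul_mul_assoc, S_right φ hg]

theorem natCast_smul_eq (n : ℕ) (x : Module.End ℂ V) : ((n : ℕ) : Module.End ℂ V) * x = (n : ℂ) • x := by
  rw [← nsmul_eq_mul, Nat.cast_smul_eq_nsmul]

theorem av_of_left {H : Subgroup Y} {x : Module.End ℂ V} (hx : ∀ g ∈ H, φ g * x = x) : av φ H * x = x := by
  rw [av, smul_mul_assoc, S_eq_of_left φ (fun g hg => hx g hg), natCast_smul_eq, smul_smul,
    inv_mul_cancel₀ (card_ne H), one_smul]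

theorem av_of_right {H : Subgroup Y} {x : Module.End ℂ V} (hx : ∀ g ∈ H, x * φ g = x) : x * av φ H = x := by
  rw [av, mul_smul_comm, S_eq_of_right φ hx, natCast_smul_eq, smul_smul, inv_mul_cancel₀ (card_ne H), one_smul]

theorem av_av (H : Subgroup Y) : av φ H * av φ H = av φ H := av_of_left φ fun _ hg => mul_av φ hg

theorem av_le_left {H K : Subgroup Y} (hle : H ≤ K) : av φ H * av φ K = av φ K :=
  av_of_left φ fun _ hg => mul_av φ (hle hg)

theorem av_le_right {H K : Subgroup Y} (hle : H ≤ K) : av φ K * av φ H = av φ K :=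
  av_of_right φ fun _ hg => av_mul φ (hle hg)

theorem comm_av {H : Subgroup Y} {g : Y} (hg : g ∈ Subgroup.normalizer (H : Set Y)) :
    φ g * av φ H = av φ H * φ g := by
  rw [av, mul_smul_comm, smul_mul_assoc, comm_of_cj φ (mem_normalizer_iff_cj.1 hg)]

theorem av_vec {H : Subgroup Y} {v : V} (hv : ∀ g ∈ H, φ g v = v) : av φ H v = v := by
  rw [av, LinearMap.smul_apply, S, LinearMap.sum_apply,
    Finset.sum_congr rfl (g := fun _ => v) fun g hg => hv g ((Set.Finite.mem_toFinset _).1 hg),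
    Finset.sum_const, ← Nat.cast_smul_eq_nsmul ℂ, smul_smul]
  have h1 : (((Set.toFinite (H : Set Y)).toFinset.card : ℕ) : ℂ) = (Nat.card H : ℂ) := by
    rw [← Set.ncard_eq_toFinset_card, ← Nat.card_coe_set_eq]
    rfl
  rw [h1, inv_mul_cancel₀ (card_ne H), one_smul]

theorem fix_av {H : Subgroup Y} {g : Y} (hg : g ∈ H) (v : V) : φ g (av φ H v) = av φ H v :=
  LinearMap.congr_fun (mul_av φ hg) v

/-- the average over a product -/
theorem av_sup {H K L : Subgroup Y} (hH : H ≤ L) (hK : K ≤ L) (hL : ∀ g ∈ L, ∃ a ∈ H, ∃ b ∈ K, g = a * b)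
    (hn : H ≤ Subgroup.normalizer (K : Set Y)) : av φ L = av φ H * av φ K := by
  have hc : av φ H * av φ K = av φ K * av φ H := by
    rw [av, smul_mul_assoc, mul_smul_comm]
    congr 1
    unfold S
    rw [Finset.sum_mul, Finset.mul_sum]
    exact Finset.sum_congr rfl fun g hg => comm_av φ (hn ((Set.Finite.mem_toFinset _).1 hg))
  have h1 : av φ L * (av φ H * av φ K) = av φ L := by
    rw [← mul_assoc, av_le_right φ hH, av_le_right φ hK]
  rw [← h1]
  refine av_of_left φ fun g hg => ?_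
  obtain ⟨a, ha, b, hb, rfl⟩ := hL g hg
  rw [map_mul, mul_assoc, hc, ← mul_assoc (φ b), mul_av φ hb, ← hc, ← mul_assoc, mul_av φ ha]

variable [FiniteDimensional ℂ V]

open LinearMap (trace)

/-- **truncation** -/
theorem trace_av {H : Subgroup Y} {t : Y} (ht : ∀ x ∈ H, t⁻¹ * x * t ∈ H) (hc : ∀ x ∈ H, t * x = x * t → x = 1) :
    trace ℂ V (φ t * av φ H) = trace ℂ V (φ t) := by
  have h1 : ∀ x ∈ H, ∃ y ∈ H, t * x = y * t * y⁻¹ := by
    let f : H → H := fun y => ⟨t⁻¹ * y * t * (y : Y)⁻¹, mul_mem (ht _ y.2) (inv_mem y.2)⟩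
    have hf : Function.Injective f := by
      rintro ⟨y, hy⟩ ⟨z, hz⟩ e
      have e1 : t⁻¹ * y * t * y⁻¹ = t⁻¹ * z * t * z⁻¹ := congrArg Subtype.val e
      have e2 : z⁻¹ * y = 1 := by
        refine hc _ (mul_mem (inv_mem hz) hy) ?_
        have e4 : t * (t⁻¹ * z * t * z⁻¹) * y = z * t * (z⁻¹ * y) := by group
        have e5 : t * (t⁻¹ * y * t * y⁻¹) * y = y * t := by group
        have e6 : y * t = z * t * (z⁻¹ * y) := by rw [← e4, ← e1, e5]
        calc t * (z⁻¹ * y) = z⁻¹ * (z * t * (z⁻¹ * y)) := by group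
          _ = _ := by rw [← e6]; group
      exact Subtype.ext (inv_mul_eq_one.1 e2).symm
    intro x hx
    obtain ⟨y, hy⟩ := (Finite.injective_iff_surjective.1 hf) ⟨x, hx⟩
    have hy' : t⁻¹ * y * t * (y : Y)⁻¹ = x := congrArg Subtype.val hy
    refine ⟨y, y.2, ?_⟩
    rw [← hy']
    group
  have h2 : ∀ x ∈ H, trace ℂ V (φ (t * x)) = trace ℂ V (φ t) := by
    intro x hx
    obtain ⟨y, hy, e⟩ := h1 x hx
    rw [e, map_mul φ, LinearMap.trace_mul_comm, ← map_mul, ← mul_assoc, inv_mul_cancel, one_mul]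
  rw [av, mul_smul_comm, map_smul, S, Finset.mul_sum, map_sum,
    Finset.sum_congr rfl (g := fun _ => trace ℂ V (φ t)) fun x hx => by
      rw [← map_mul]; exact h2 x ((Set.Finite.mem_toFinset _).1 hx)]
  rw [Finset.sum_const, nsmul_eq_mul, smul_eq_mul]
  have h1 : (((Set.toFinite (H : Set Y)).toFinset.card : ℕ) : ℂ) = (Nat.card H : ℂ) := by
    rw [← Set.ncard_eq_toFinset_card, ← Nat.card_coe_set_eq]
    rfl
  rw [h1, ← mul_assoc, inv_mul_cancel₀ (card_ne H), one_mul]

theorem trace_av_eq (H : Subgroup Y) :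
    (Nat.card H : ℂ) * trace ℂ V (av φ H) = ∑ g ∈ (Set.toFinite (H : Set Y)).toFinset, trace ℂ V (φ g) := by
  rw [av, map_smul, smul_eq_mul, ← mul_assoc, mul_inv_cancel₀ (card_ne H), one_mul, S, map_sum]

/-- idempotents -/
theorem trace_idem {x : Module.End ℂ V} (hx : x * x = x) : trace ℂ V x = (Module.finrank ℂ (LinearMap.range x) : ℂ) := by
  have h1 : LinearMap.IsProj (LinearMap.range x) x := by
    refine ⟨fun v => LinearMap.mem_range_self x v, ?_⟩
    rintro _ ⟨v, rfl⟩
    exact LinearMap.congr_fun hx v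
  exact h1.trace

end Av

section Irr

variable {Y : Type*} [Group Y] {V : Type*} [AddCommGroup V] [Module ℂ V] (ρ : Representation ℂ Y V)

/-- **killing** -/
theorem irr_kill (hρ : ρ.IsIrreducible) {y : Module.End ℂ V} {f : V} (hf : f ≠ 0) (h : ∀ g, y (ρ g f) = 0) : y = 0 := by
  let K : Subrepresentation ρ :=
    { toSubmodule := ⨅ g : Y, LinearMap.ker (y * ρ g)
      apply_mem_toSubmodule := by
        intro a v hv
        rw [Submodule.mem_iInf] at hv ⊢
        intro g
        have h1 := hv (g * a)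
        rw [LinearMap.mem_ker] at h1 ⊢
        rw [map_mul] at h1
        exact h1 }
  have hK : K = ⊥ ∨ K = ⊤ := hρ.eq_bot_or_eq_top K
  have hfK : f ∈ K.toSubmodule := by
    show f ∈ ⨅ g : Y, LinearMap.ker (y * ρ g)
    rw [Submodule.mem_iInf]
    intro g
    rw [LinearMap.mem_ker]
    exact h g
  rcases hK with hK | hK
  · rw [hK] at hfK
    exact absurd ((Submodule.mem_bot ℂ).1 hfK) hf
  · ext v
    have h1 : v ∈ K.toSubmodule := by rw [hK]; exact Submodule.mem_top
    have h2 : v ∈ ⨅ g : Y, LinearMap.ker (y * ρ g) := h1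
    rw [Submodule.mem_iInf] at h2
    have h3 := h2 1
    rw [LinearMap.mem_ker, map_one, mul_one] at h3
    rw [h3]
    rfl

end Irr

end Cfsg.Agent.H866.OZ
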