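import Mathlib
import Cfsg.Agent.H866.OZ.Rep
import Cfsg.Agent.H866.D4Wf.Coset
import Cfsg.Agent.Nodes.NormalForm

/-!
# S4842: fixed points of unipotent radicals in an irreducible representation (helper866)

For a root group datum with `G = GG`, an irreducible representation `ρ` of `G`:
* `gen` : if `V^U ≠ 0`, then `V^(V_i)` is generated by `V^U` under the rank one group;
* `char_elliptic` : the value at `h Φ(B)`, `B` elliptic; `dim_V` : the dimension of `V^(V_i)`;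
* `rank_two` : if `V^U = 0` and `V^(V_i) ≠ 0`, then `V^(V_j) = 0` if no `w` maps `α_i` to `± α_j`.
-/

set_option autoImplicit false
set_option linter.unusedSectionVars false
set_option maxHeartbeats 400000

namespace Cfsg.Agent.H866.OZ

open CoxeterSystem Cfsg.Agent.ChevalleyStructure.CoxeterGeom Cfsg.Agent.Tits.Roots Cfsg.Agent.Tits.Core
  Cfsg.Agent.Tits.Exchange Cfsg.Agent.Nodes.Reps Cfsg.Agent.Nodes.BNOf Cfsg.Agent.Nodes.StabComb
  Cfsg.Agent.Nodes.Bruhat Cfsg.Agent.Nodes.OppDec Cfsg.Agent.Nodes.LeviDec Cfsg.Agent.Nodes.NormalForm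
open Cfsg.Agent.H866.D4Wf (eq_of_mem_RootsJ)
open Cfsg.Agent.ChevalleyStructure.SL2Hom (up lo mem_closure_SL2)
open Cfsg.Agent.Nodes.RGDFoldSL (wS hS coe_wS coe_hS)
open Cfsg.Agent.H631.Kaw (S)
open LinearMap (trace)

section Grp

variable {I W Y : Type*} [Fintype I] [DecidableEq I] [Group W] [Group Y] {M : CoxeterMatrix I}
  {cs : CoxeterSystem M W} {A : I → I → ℤ} {h : IsCartan M A} {p : ℕ} {T : Subgroup Y} {n : I → Y}
  {X : (I → ℤ) → Subgroup Y} (R : RGD cs h p T n X)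

include R

theorem UJ_single (i : I) : UJ cs h X {i} = X (sr i) := by
  apply le_antisymm
  · refine RGD.Sup_le fun x hx => ?_
    rcases eq_of_mem_RootsJ R (PosJ_subset {i} hx) with rfl | rfl
    · exact le_rfl
    · exact absurd (neg_nonneg.1 hx.2.1) fun h1 => (isRoot_sr cs h i).not_pos_neg (sr_nonneg i) h1
  · exact RGD.le_Sup (S := PosJ cs h {i}) (sr_mem_PosJ (Set.mem_singleton i))

theorem X_le_U (i : I) : X (sr i) ≤ RGD.Sup X (RGD.Pos cs h) :=
  RGD.le_Sup (S := RGD.Pos cs h) ⟨isRoot_sr cs h i, sr_nonneg i⟩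

/-- `U = X_i V_i` -/
theorem mem_U_split (i : I) {g : Y} (hg : g ∈ RGD.Sup X (RGD.Pos cs h)) :
    ∃ a ∈ X (sr i), ∃ v ∈ VJ cs h X {i}, g = a * v := by
  obtain ⟨a, ha, v, hv, e⟩ := (mem_U_iff R (J := {i})).1 hg
  rw [UJ_single R] at ha
  exact ⟨a, ha, v, hv, e⟩

theorem X_le_normalizer_VJ (i : I) : X (sr i) ≤ Subgroup.normalizer (VJ cs h X {i} : Set Y) :=
  le_trans (X_le_LJ (PosJ_subset {i} (sr_mem_PosJ (Set.mem_singleton i)))) (LJ_le_normalizer_VJ R {i})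

theorem n_mem_normalizer_VJ (i : I) : n i ∈ Subgroup.normalizer (VJ cs h X {i} : Set Y) :=
  LJ_le_normalizer_VJ R {i} (n_mem_LJ R (Set.mem_singleton i))

theorem T_le_normalizer_VJ (J : Set I) : T ≤ Subgroup.normalizer (VJ cs h X J : Set Y) :=
  le_trans T_le_LJ (LJ_le_normalizer_VJ R J)

theorem U_le_normalizer_VJ (i : I) :
    RGD.Sup X (RGD.Pos cs h) ≤ Subgroup.normalizer (VJ cs h X {i} : Set Y) := by
  intro g hg
  obtain ⟨a, ha, v, hv, rfl⟩ := mem_U_split R i hg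
  exact mul_mem (X_le_normalizer_VJ R i ha) (Subgroup.le_normalizer hv)

/-- `G = U N U` -/
theorem exists_unu [Finite W] (hG : GG cs h T X = ⊤) (g : Y) : ∃ u ∈ RGD.Sup X (RGD.Pos cs h), ∃ w k,
    Rp cs R.nsys w k ∧ ∃ u' ∈ RGD.Sup X (RGD.Pos cs h), g = u * k * u' := by
  obtain ⟨w, hw⟩ := (mem_GG R).1 (show g ∈ GG cs h T X by rw [hG]; exact Subgroup.mem_top g)
  obtain ⟨u, hu, k, hk, v, hv, e⟩ := exists_normal_form R hw
  exact ⟨u, hu, w, k, hk, v, RGD.Sup_mono (S := NW cs h w) (S' := RGD.Pos cs h) (fun x hx => ⟨hx.1, hx.2.1⟩) hv, e⟩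

/-- conjugation into `U` -/
theorem conj_X {w : W} {k : Y} (hk : Rp cs R.nsys w k) {x : I → ℤ} (hx : IsRoot cs h x) {a : Y} (ha : a ∈ X x) :
    k⁻¹ * a * k ∈ X (rep cs h w⁻¹ x) := R.conj_mem' hk hx ha

end Grp

section Rep

variable {I W Y : Type*} [Fintype I] [DecidableEq I] [Group W] [Group Y] [Finite Y] {M : CoxeterMatrix I}
  {cs : CoxeterSystem M W} {A : I → I → ℤ} {h : IsCartan M A} {p : ℕ} {T : Subgroup Y} {n : I → Y}
  {X : (I → ℤ) → Subgroup Y} {V : Type*} [AddCommGroup V] [Module ℂ V] (ρ : Representation ℂ Y V)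

/-- the projection onto the fixed points of `U` -/
noncomputable def eU (cs : CoxeterSystem M W) (h : IsCartan M A) (X : (I → ℤ) → Subgroup Y) : Module.End ℂ V :=
  av ρ (RGD.Sup X (RGD.Pos cs h))

/-- the projection onto the fixed points of `V_i` -/
noncomputable def eV (cs : CoxeterSystem M W) (h : IsCartan M A) (X : (I → ℤ) → Subgroup Y) (i : I) :
    Module.End ℂ V := av ρ (VJ cs h X {i})

variable {ρ} (R : RGD cs h p T n X)

include R

theorem eU_eq (i : I) : eU ρ cs h X = av ρ (X (sr i)) * eV ρ cs h X i :=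
  av_sup ρ (X_le_U R i) (VJ_le_U {i}) (fun _ hg => mem_U_split R i hg) (X_le_normalizer_VJ R i)

theorem eV_eU (i : I) : eV ρ cs h X i * eU ρ cs h X = eU ρ cs h X := av_le_left ρ (VJ_le_U {i})

omit [Finite Y] in
theorem apply_mul (a b : Y) (v : V) : ρ (a * b) v = ρ a (ρ b v) := by rw [map_mul]; rfl

theorem eU_fix {u : Y} (hu : u ∈ RGD.Sup X (RGD.Pos cs h)) (v : V) : ρ u (eU ρ cs h X v) = eU ρ cs h X v :=
  fix_av ρ hu v

theorem eV_fix {i : I} {u : Y} (hu : u ∈ VJ cs h X {i}) (v : V) : ρ u (eV ρ cs h X i v) = eV ρ cs h X i v :=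
  fix_av ρ hu v

theorem eU_of_fix {v : V} (hv : ∀ u ∈ RGD.Sup X (RGD.Pos cs h), ρ u v = v) : eU ρ cs h X v = v := av_vec ρ hv

/-- a vector fixed by `V_i` and `X_i` is fixed by `U` -/
theorem fix_of_XV {i : I} {v : V} (h1 : ∀ u ∈ X (sr i), ρ u v = v) (h2 : ∀ u ∈ VJ cs h X {i}, ρ u v = v) :
    ∀ u ∈ RGD.Sup X (RGD.Pos cs h), ρ u v = v := by
  intro u hu
  obtain ⟨a, ha, b, hb, rfl⟩ := mem_U_split R i hu
  rw [apply_mul R, h2 b hb, h1 a ha]

/-- `e_(V_i)` absorbs `V_i` and commutes with the normaliser -/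
theorem eV_comm {i : I} {g : Y} (hg : g ∈ Subgroup.normalizer (VJ cs h X {i} : Set Y)) (v : V) :
    eV ρ cs h X i (ρ g v) = ρ g (eV ρ cs h X i v) :=
  (LinearMap.congr_fun (comm_av ρ hg) v).symm

theorem eV_absorb {i : I} {g : Y} (hg : g ∈ VJ cs h X {i}) (v : V) : eV ρ cs h X i (ρ g v) = eV ρ cs h X i v :=
  LinearMap.congr_fun (av_mul ρ hg) v

theorem eU_absorb {g : Y} (hg : g ∈ RGD.Sup X (RGD.Pos cs h)) (v : V) : eU ρ cs h X (ρ g v) = eU ρ cs h X v :=
  LinearMap.congr_fun (av_mul ρ hg) v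

/-- the vector `e_(V_j) k f`, `f` fixed by `X_y`, `y = w⁻¹ (± α_j)` -/
theorem fix_pos {w : W} {k : Y} (hk : Rp cs R.nsys w k) {j : I} {f : V}
    (hf : ∀ u ∈ X (rep cs h w⁻¹ (sr j)), ρ u f = f) :
    ∀ u ∈ RGD.Sup X (RGD.Pos cs h), ρ u (eV ρ cs h X j (ρ k f)) = eV ρ cs h X j (ρ k f) := by
  refine fix_of_XV R (i := j) (fun u hu => ?_) (fun u hu => eV_fix R hu _)
  rw [← eV_comm R (X_le_normalizer_VJ R j hu), ← apply_mul R]
  have h1 : u * k = k * (k⁻¹ * u * k) := by group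
  rw [h1, apply_mul R, hf _ (conj_X R hk (isRoot_sr cs h j) hu)]

theorem fix_neg {w : W} {k : Y} (hk : Rp cs R.nsys w k) {j : I} {f : V}
    (hf : ∀ u ∈ X (rep cs h w⁻¹ (-sr j)), ρ u f = f) :
    ∀ u ∈ RGD.Sup X (RGD.Pos cs h), ρ u (ρ (n j)⁻¹ (eV ρ cs h X j (ρ k f))) = ρ (n j)⁻¹ (eV ρ cs h X j (ρ k f)) := by
  have hn := n_mem_normalizer_VJ R j
  refine fix_of_XV R (i := j) (fun u hu => ?_) (fun u hu => ?_)
  · have h1 : n j * u * (n j)⁻¹ ∈ X (-sr j) := by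
      have := R.conj_mem (rp_simple cs R.nsys j) (isRoot_sr cs h j) hu
      rwa [rep_simple_sr] at this
    have h2 : u * (n j)⁻¹ = (n j)⁻¹ * (n j * u * (n j)⁻¹) := by group
    rw [← apply_mul R, h2, apply_mul R]
    congr 1
    have h3 : n j * u * (n j)⁻¹ ∈ Subgroup.normalizer (VJ cs h X {j} : Set Y) :=
      mul_mem (mul_mem hn (X_le_normalizer_VJ R j hu)) (inv_mem hn)
    rw [← eV_comm R h3, ← apply_mul R]
    have h4 : (n j * u * (n j)⁻¹) * k = k * (k⁻¹ * (n j * u * (n j)⁻¹) * k) := by group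
    rw [h4, apply_mul R, hf _ (conj_X R hk (isRoot_sr cs h j).neg h1)]
  · rw [← eV_comm R (inv_mem hn)]
    exact eV_fix R hu _

/-- **`V^(V_j) = 0`** -/
theorem rank_two [Finite W] (hG : GG cs h T X = ⊤) (hρ : ρ.IsIrreducible) (h0 : eU ρ cs h X = 0) {i j : I}
    (hij : ∀ w : W, rep cs h w⁻¹ (sr j) ≠ sr i ∧ rep cs h w⁻¹ (sr j) ≠ -sr i) (hV : eV ρ cs h X i ≠ 0) :
    eV ρ cs h X j = 0 := by
  obtain ⟨v, hv⟩ : ∃ v, eV ρ cs h X i v ≠ 0 := by
    by_contra hcon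
    push Not at hcon
    exact hV (LinearMap.ext hcon)
  have key : ∀ f : V, (∀ u ∈ VJ cs h X {i}, ρ u f = f) → ∀ {w : W} {k : Y}, Rp cs R.nsys w k →
      eV ρ cs h X j (ρ k f) = 0 := by
    intro f hf w k hk
    have hz : ∀ v : V, (∀ u ∈ RGD.Sup X (RGD.Pos cs h), ρ u v = v) → v = 0 := by
      intro v hv
      rw [← eU_of_fix R hv, h0]
      rfl
    have hr := (isRoot_sr cs h j).act w⁻¹
    rcases hr.pos_or_neg with h1 | h1
    · refine hz _ (fix_pos R hk fun u hu => ?_)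
      refine hf u (RGD.le_Sup (S := NotJ cs h {i}) ?_ hu)
      rcases mem_PosJ_or_NotJ {i} hr h1 with h2 | h2
      · exfalso
        rcases eq_of_mem_RootsJ R (PosJ_subset {i} h2) with h3 | h3
        · exact (hij w).1 h3
        · exact (hij w).2 h3
      · exact h2
    · have h2 : ρ (n j)⁻¹ (eV ρ cs h X j (ρ k f)) = 0 := by
        refine hz _ (fix_neg R hk (f := f) fun u hu => ?_)
        refine hf u (RGD.le_Sup (S := NotJ cs h {i}) ?_ hu)
        rw [map_neg]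
        rcases mem_PosJ_or_NotJ {i} hr.neg (neg_nonneg.2 h1) with h2 | h2
        · exfalso
          rcases eq_of_mem_RootsJ R (PosJ_subset {i} h2) with h3 | h3
          · exact (hij w).2 (by rw [← h3, neg_neg])
          · exact (hij w).1 (neg_injective h3)
        · exact h2
      have h3 := congrArg (ρ (n j)) h2
      rw [← apply_mul R, mul_inv_cancel, map_one, map_zero] at h3
      exact h3
  refine irr_kill ρ hρ hv fun g => ?_
  obtain ⟨u, hu, w, k, hk, u', hu', rfl⟩ := exists_unu R hG g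
  obtain ⟨a, ha, b, hb, e⟩ := mem_U_split R j (inv_mem hu)
  have e' : u = b⁻¹ * a⁻¹ := by rw [← mul_inv_rev, ← e, inv_inv]
  rw [e', mul_assoc, mul_assoc, apply_mul R, eV_absorb R (inv_mem hb), apply_mul R,
    eV_comm R (X_le_normalizer_VJ R j (inv_mem ha)), apply_mul R, key _ ?_ hk, map_zero]
  intro x hx
  rw [← apply_mul R]
  have h2 : x * u' = u' * (u'⁻¹ * x * u') := by group
  have h3 : u'⁻¹ * x * u' ∈ VJ cs h X {i} := by
    have := (Subgroup.mem_normalizer_iff.1 (inv_mem (U_le_normalizer_VJ R i hu')) x).1 hx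
    rwa [inv_inv] at this
  rw [h2, apply_mul R, eV_fix R h3]

end Rep

end Cfsg.Agent.H866.OZ
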