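import Mathlib
import Cfsg.Agent.H866.OZ.Frame

/-!
# S4842: the rank one formulas in a root group datum (helper866)
-/

set_option autoImplicit false
set_option linter.unusedSectionVars false
set_option maxHeartbeats 400000

namespace Cfsg.Agent.H866.OZ

open CoxeterSystem Cfsg.Agent.ChevalleyStructure.CoxeterGeom Cfsg.Agent.Tits.Roots Cfsg.Agent.Tits.Core
  Cfsg.Agent.Tits.Exchange Cfsg.Agent.Nodes.Reps Cfsg.Agent.Nodes.BNOf Cfsg.Agent.Nodes.StabComb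
  Cfsg.Agent.Nodes.Bruhat Cfsg.Agent.Nodes.OppDec Cfsg.Agent.Nodes.LeviDec Cfsg.Agent.Nodes.NormalForm
open Cfsg.Agent.H866.D4Wf (eq_of_mem_RootsJ)
open Cfsg.Agent.ChevalleyStructure.SL2Hom (up lo mem_closure_SL2)
open Cfsg.Agent.Nodes.RGDFoldSL (wS hS coe_wS coe_hS)
open Cfsg.Agent.H631.Kaw (S)
open LinearMap (trace)

variable {I W Y : Type*} [Fintype I] [DecidableEq I] [Group W] [Group Y] [Finite Y] {M : CoxeterMatrix I}
  {cs : CoxeterSystem M W} {A : I → I → ℤ} {h : IsCartan M A} {p : ℕ} {T : Subgroup Y} {n : I → Y}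
  {X : (I → ℤ) → Subgroup Y} {V : Type*} [AddCommGroup V] [Module ℂ V] {ρ : Representation ℂ Y V}
  {F : Type*} [Field F] [Fintype F] [DecidableEq F]

/-- coordinates of a node -/
structure Co (T : Subgroup Y) (n : I → Y) (X : (I → ℤ) → Subgroup Y) (i : I)
    (Φ : Matrix.SpecialLinearGroup (Fin 2) F →* Y) : Prop where
  mem : ∀ x, x ∈ X (sr i) ↔ ∃ a, x = Φ (up a)
  inj : ∀ a b, Φ (up a) = Φ (up b) → a = b
  w : Φ (wS 1) = n i
  tor : ∀ c : F, c ≠ 0 → Φ (hS c) ∈ T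

/-- the representation of the rank one group -/
noncomputable def ps (ρ : Representation ℂ Y V) (Φ : Matrix.SpecialLinearGroup (Fin 2) F →* Y) :
    Matrix.SpecialLinearGroup (Fin 2) F →* Module.End ℂ V := MonoidHom.comp ρ Φ

theorem ps_apply (Φ : Matrix.SpecialLinearGroup (Fin 2) F →* Y) (g : Matrix.SpecialLinearGroup (Fin 2) F) :
    ps ρ Φ g = ρ (Φ g) := rfl

variable {i : I} {Φ : Matrix.SpecialLinearGroup (Fin 2) F →* Y}

theorem Co.card (C : Co T n X i Φ) : Nat.card (X (sr i)) = Fintype.card F := by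
  rw [← Nat.card_eq_fintype_card]
  symm
  refine Nat.card_congr (Equiv.ofBijective (fun a : F => (⟨Φ (up a), (C.mem _).2 ⟨a, rfl⟩⟩ : X (sr i))) ⟨?_, ?_⟩)
  · intro a b e
    exact C.inj a b (congrArg Subtype.val e)
  · rintro ⟨x, hx⟩
    obtain ⟨a, rfl⟩ := (C.mem x).1 hx
    exact ⟨a, rfl⟩

theorem Co.eX_eq (C : Co T n X i Φ) : eX (ps ρ Φ) = av ρ (X (sr i)) := by
  classical
  rw [eX, av, C.card]
  have h1 : (Set.toFinite ((X (sr i) : Subgroup Y) : Set Y)).toFinset =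
      (Finset.univ : Finset F).image (fun a => Φ (up a)) := by
    ext x
    rw [Set.Finite.mem_toFinset, Finset.mem_image, SetLike.mem_coe, C.mem]
    exact ⟨fun ⟨a, e⟩ => ⟨a, Finset.mem_univ _, e.symm⟩, fun ⟨a, _, e⟩ => ⟨a, e.symm⟩⟩
  rw [S, h1, Finset.sum_image fun a _ b _ e => C.inj a b e]
  rfl

variable (R : RGD cs h p T n X)

include R

theorem Co.mem_LJ (C : Co T n X i Φ) (B : Matrix.SpecialLinearGroup (Fin 2) F) : Φ B ∈ LJ cs h T X {i} := by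
  have hn := n_mem_LJ R (Set.mem_singleton i)
  have hup : ∀ a, Φ (up a) ∈ LJ cs h T X {i} := fun a =>
    X_le_LJ (PosJ_subset {i} (sr_mem_PosJ (Set.mem_singleton i))) ((C.mem _).2 ⟨a, rfl⟩)
  have h3 : Subgroup.closure (Set.range (up (F := F)) ∪ Set.range (lo (F := F))) ≤
      (LJ cs h T X {i}).comap Φ := by
    rw [Subgroup.closure_le]
    rintro _ (⟨a, rfl⟩ | ⟨a, rfl⟩)
    · exact hup a
    · show Φ (lo a) ∈ LJ cs h T X {i}
      rw [lo_eq, map_mul, map_mul, map_inv, C.w]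
      exact mul_mem (mul_mem (inv_mem hn) (hup _)) hn
  exact h3 (mem_closure_SL2 B)

theorem Co.mem_normalizer (C : Co T n X i Φ) (B : Matrix.SpecialLinearGroup (Fin 2) F) :
    Φ B ∈ Subgroup.normalizer (VJ cs h X {i} : Set Y) := LJ_le_normalizer_VJ R {i} (C.mem_LJ R B)

theorem Co.eV_comm (C : Co T n X i Φ) (B : Matrix.SpecialLinearGroup (Fin 2) F) :
    eV ρ cs h X i * ps ρ Φ B = ps ρ Φ B * eV ρ cs h X i := (comm_av ρ (C.mem_normalizer R B)).symm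

omit [DecidableEq F] in
theorem eV_eV : eV ρ cs h X i * eV ρ cs h X i = eV ρ cs h X i := av_av ρ _

theorem Co.uu_eq (C : Co T n X i Φ) : uu (ps ρ Φ) (eV ρ cs h X i) = eU ρ cs h X := by
  rw [uu, C.eX_eq, eU_eq R i]

theorem T_comm_eU {t : Y} (ht : t ∈ T) : ρ t * eU ρ cs h X = eU ρ cs h X * ρ t :=
  comm_av ρ (R.T_le_normalizer_U ht)

theorem T_comm_eV {t : Y} (ht : t ∈ T) : ρ t * eV ρ cs h X i = eV ρ cs h X i * ρ t :=
  comm_av ρ (T_le_normalizer_VJ R {i} ht)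

/-- **`V^(V_i)` is generated by `V^U`** -/
theorem Co.gen [Finite W] (C : Co T n X i Φ) (hG : GG cs h T X = ⊤) (hρ : ρ.IsIrreducible) (h0 : eU ρ cs h X ≠ 0)
    (y : Module.End ℂ V) (hy : ∀ g, y * (ps ρ Φ g * uu (ps ρ Φ) (eV ρ cs h X i)) = 0) : y * eV ρ cs h X i = 0 := by
  rw [C.uu_eq R] at hy
  obtain ⟨v, hv⟩ : ∃ v, eU ρ cs h X v ≠ 0 := by
    by_contra hcon
    push Not at hcon
    exact h0 (LinearMap.ext hcon)
  have hy' : ∀ (B : Matrix.SpecialLinearGroup (Fin 2) F) (m : V), (∀ u ∈ RGD.Sup X (RGD.Pos cs h), ρ u m = m) →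
      y (ρ (Φ B) m) = 0 := by
    intro B m hm
    have h1 := LinearMap.congr_fun (hy B) m
    have h2 : (y * (ps ρ Φ B * eU ρ cs h X)) m = y (ρ (Φ B) (eU ρ cs h X m)) := rfl
    rw [h2, eU_of_fix R hm] at h1
    exact h1
  refine irr_kill ρ hρ hv fun g => ?_
  obtain ⟨u, hu, w, k, hk, u', hu', rfl⟩ := exists_unu R hG g
  obtain ⟨a, ha, b, hb, e⟩ := mem_U_split R i (inv_mem hu)
  have e' : u = b⁻¹ * a⁻¹ := by rw [← mul_inv_rev, ← e, inv_inv]
  have ha' := inv_mem ha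
  show y (eV ρ cs h X i (ρ (u * k * u') (eU ρ cs h X v))) = 0
  rw [e', mul_assoc, mul_assoc, apply_mul R, eV_absorb R (inv_mem hb), apply_mul R,
    OZ.eV_comm R (X_le_normalizer_VJ R i ha'), apply_mul R, eU_fix R hu']
  have hf : ∀ u ∈ RGD.Sup X (RGD.Pos cs h), ρ u (eU ρ cs h X v) = eU ρ cs h X v := fun u hu => eU_fix R hu v
  have hr := (isRoot_sr cs h i).act w⁻¹
  obtain ⟨c, hc⟩ := (C.mem _).1 ha'
  rcases hr.pos_or_neg with h1 | h1
  · have h2 := fix_pos R hk (j := i) (f := eU ρ cs h X v) fun u hu =>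
      hf u (RGD.le_Sup (S := RGD.Pos cs h) ⟨hr, h1⟩ hu)
    rw [hc]
    exact hy' _ _ h2
  · have h2 := fix_neg R hk (j := i) (f := eU ρ cs h X v) fun u hu => by
      refine hf u (RGD.le_Sup (S := RGD.Pos cs h) ?_ hu)
      rw [map_neg]
      exact ⟨hr.neg, neg_nonneg.2 h1⟩
    have h3 := hy' (up c * wS 1) _ h2
    rw [map_mul, C.w, apply_mul R, ← apply_mul R (n i), mul_inv_cancel, map_one] at h3
    rw [hc]
    exact h3

variable [FiniteDimensional ℂ V]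

/-- **the character at an elliptic element of rank one** -/
theorem Co.char_elliptic [Finite W] (C : Co T n X i Φ) (hG : GG cs h T X = ⊤) (hρ : ρ.IsIrreducible)
    (h0 : eU ρ cs h X ≠ 0) (hT : ∀ s ∈ T, ∀ t ∈ T, s * t = t * s)
    (hsur : ∀ d : F, d ≠ 0 → ∃ t ∈ T, t * n i = n i * Φ (hS d) * t) {g : Y} (hg : g ∈ T)
    (hgc : ∀ B, g * Φ B = Φ B * g) {B : Matrix.SpecialLinearGroup (Fin 2) F} (hB : Ellip B)
    (hfree : ∀ v ∈ VJ cs h X {i}, g * Φ B * v = v * (g * Φ B) → v = 1) :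
    trace ℂ V (ρ (g * Φ B)) = trace ℂ V (ρ g * piA (ps ρ Φ) (eV ρ cs h X i)) -
      trace ℂ V (ρ g * piS (ps ρ Φ) (eV ρ cs h X i)) := by
  have hnorm : g * Φ B ∈ Subgroup.normalizer (VJ cs h X {i} : Set Y) :=
    mul_mem (T_le_normalizer_VJ R {i} hg) (C.mem_normalizer R B)
  have h1 : trace ℂ V (ρ (g * Φ B) * eV ρ cs h X i) = trace ℂ V (ρ (g * Φ B)) := by
    refine trace_av ρ (fun x hx => ?_) hfree
    have := (Subgroup.mem_normalizer_iff.1 (inv_mem hnorm) x).1 hx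
    rwa [inv_inv] at this
  rw [← h1, map_mul ρ]
  refine trace_elliptic (ψ := ps ρ Φ) (ε := eV ρ cs h X i) (eV_eV R) (fun B => C.eV_comm R B) (trace ℂ V)
    (fun x y => LinearMap.trace_mul_comm ℂ x y) (τ := ρ g) (fun B => ?_) (T_comm_eV R hg)
    (C.gen R hG hρ h0) (fun d hd => ?_) hB
  · rw [ps_apply, ← map_mul, hgc, map_mul]
  · obtain ⟨t, ht, e⟩ := hsur d hd
    refine ⟨ρ t, ρ t⁻¹, ?_, ?_, ?_, ?_, ?_, ?_⟩
    · rw [← map_mul, mul_inv_cancel, map_one]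
    · rw [← map_mul, inv_mul_cancel, map_one]
    · rw [← map_mul, ← map_mul, hT t ht g hg]
    · intro c hc
      rw [ps_apply, ← map_mul, ← map_mul, hT t ht _ (C.tor c hc)]
    · rw [C.uu_eq R]
      exact T_comm_eU R ht
    · rw [ps_apply, ps_apply, ← map_mul, C.w, e, map_mul, map_mul]

/-- **the dimension of `V^(V_i)`** -/
theorem Co.dim_V [Finite W] (C : Co T n X i Φ) (hG : GG cs h T X = ⊤) (hρ : ρ.IsIrreducible)
    (h0 : eU ρ cs h X ≠ 0) :
    trace ℂ V (eV ρ cs h X i) = (qq F + 1) / 2 * trace ℂ V (eU ρ cs h X) -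
      (qq F - 1) / 2 * (trace ℂ V (piA (ps ρ Φ) (eV ρ cs h X i)) - trace ℂ V (piS (ps ρ Φ) (eV ρ cs h X i))) := by
  have h1 := trace_eps (ψ := ps ρ Φ) (ε := eV ρ cs h X i) (eV_eV R) (fun B => C.eV_comm R B) (trace ℂ V)
    (fun x y => LinearMap.trace_mul_comm ℂ x y) (C.gen R hG hρ h0)
  rwa [C.uu_eq R] at h1

end Cfsg.Agent.H866.OZ
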