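import Mathlib
import Cfsg.Agent.H866.OZ.Elliptic
import Cfsg.Agent.H456.FixHalf3

/-!
# S4842: the fixed points of `U` and of the radicals `V_i` in an irreducible representation (helper866)

* `scalar_M`  : `g + g⁻¹` is a scalar on `V^U` if `N` maps `g` to `g` or `g⁻¹`;
* `finrank_M` : `2 dim V^U ≤ |W|` if `V^U` contains an eigenvector of `T` and `θ_i`;
* `finrank_V` : if `V^U = 0`, then `dim V^(V_i)` is `d` or `2 d`, where `d` divides the order of `L_i`.
-/

set_option autoImplicit false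
set_option linter.unusedSectionVars false
set_option maxHeartbeats 400000

namespace Cfsg.Agent.H866.OZ

open CoxeterSystem Cfsg.Agent.ChevalleyStructure.CoxeterGeom Cfsg.Agent.Tits.Roots Cfsg.Agent.Tits.Core
  Cfsg.Agent.Tits.Exchange Cfsg.Agent.Nodes.Reps Cfsg.Agent.Nodes.BNOf Cfsg.Agent.Nodes.StabComb
  Cfsg.Agent.Nodes.Bruhat Cfsg.Agent.Nodes.OppDec Cfsg.Agent.Nodes.LeviDec Cfsg.Agent.Nodes.NormalForm
open Cfsg.Agent.H866.D4Wf (eq_of_mem_RootsJ)
open Cfsg.Agent.ChevalleyStructure.SL2Hom (up lo mem_closure_SL2)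
open Cfsg.Agent.Nodes.RGDFoldSL (wS hS coe_wS coe_hS)
open Cfsg.Agent.H631.Kaw (S)
open LinearMap (trace)

section Kill

variable {Y : Type*} [Group Y] {V : Type*} [AddCommGroup V] [Module ℂ V] (ρ : Representation ℂ Y V)

/-- killing, for a map to another space -/
theorem irr_kill' (hρ : ρ.IsIrreducible) {V' : Type*} [AddCommGroup V'] [Module ℂ V'] {y : V →ₗ[ℂ] V'} {f : V}
    (hf : f ≠ 0) (h : ∀ g, y (ρ g f) = 0) : y = 0 := by
  let K : Subrepresentation ρ :=
    { toSubmodule := ⨅ g : Y, LinearMap.ker (y ∘ₗ ρ g)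
      apply_mem_toSubmodule := by
        intro a v hv
        rw [Submodule.mem_iInf] at hv ⊢
        intro g
        have h1 := hv (g * a)
        rw [LinearMap.mem_ker] at h1 ⊢
        rw [map_mul] at h1
        exact h1 }
  have hK : K = ⊥ ∨ K = ⊤ := hρ.eq_bot_or_eq_top K
  have hfK : f ∈ K.toSubmodule := by
    show f ∈ ⨅ g : Y, LinearMap.ker (y ∘ₗ ρ g)
    rw [Submodule.mem_iInf]
    intro g
    rw [LinearMap.mem_ker]
    exact h g
  rcases hK with hK | hK
  · rw [hK] at hfK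
    exact absurd ((Submodule.mem_bot ℂ).1 hfK) hf
  · ext v
    have h1 : v ∈ K.toSubmodule := by rw [hK]; exact Submodule.mem_top
    have h2 : v ∈ ⨅ g : Y, LinearMap.ker (y ∘ₗ ρ g) := h1
    rw [Submodule.mem_iInf] at h2
    have h3 := h2 1
    rw [LinearMap.mem_ker, map_one] at h3
    exact h3

theorem irr_range (hρ : ρ.IsIrreducible) (y : Module.End ℂ V) {f : V} (hf : f ≠ 0) (U : Submodule ℂ V)
    (h : ∀ g, y (ρ g f) ∈ U) : LinearMap.range y ≤ U := by
  have h1 := irr_kill' ρ hρ (y := U.mkQ ∘ₗ y) hf fun g => by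
    rw [LinearMap.comp_apply, Submodule.mkQ_apply, Submodule.Quotient.mk_eq_zero]
    exact h g
  rintro _ ⟨v, rfl⟩
  have h2 := LinearMap.congr_fun h1 v
  rw [LinearMap.comp_apply, Submodule.mkQ_apply, LinearMap.zero_apply, Submodule.Quotient.mk_eq_zero] at h2
  exact h2

end Kill

variable {I W Y : Type*} [Fintype I] [DecidableEq I] [Group W] [Group Y] [Finite Y] {M : CoxeterMatrix I}
  {cs : CoxeterSystem M W} {A : I → I → ℤ} {h : IsCartan M A} {p : ℕ} {T : Subgroup Y} {n : I → Y}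
  {X : (I → ℤ) → Subgroup Y} {V : Type*} [AddCommGroup V] [Module ℂ V] {ρ : Representation ℂ Y V}
  (R : RGD cs h p T n X)

include R

/-- `e_U (u k u') f = e_U k f` -/
theorem eU_unu {u k u' : Y} (hu : u ∈ RGD.Sup X (RGD.Pos cs h)) (hu' : u' ∈ RGD.Sup X (RGD.Pos cs h)) {f : V}
    (hf : ∀ u ∈ RGD.Sup X (RGD.Pos cs h), ρ u f = f) :
    eU ρ cs h X (ρ (u * k * u') f) = eU ρ cs h X (ρ k f) := by
  rw [mul_assoc, apply_mul R, eU_absorb R hu, apply_mul R, hf _ hu']

theorem comm_eU_apply {t : Y} (ht : t ∈ T) (v : V) : ρ t (eU ρ cs h X v) = eU ρ cs h X (ρ t v) :=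
  LinearMap.congr_fun (T_comm_eU R ht) v

section Scal

variable [FiniteDimensional ℂ V]

/-- **`g + g⁻¹` is a scalar on `V^U`** -/
theorem scalar_M [Finite W] (hG : GG cs h T X = ⊤) (hρ : ρ.IsIrreducible) {g : Y} (hg : g ∈ T)
    (hN : ∀ (w : W) (k : Y), Rp cs R.nsys w k → k⁻¹ * g * k = g ∨ k⁻¹ * g * k = g⁻¹) :
    ∃ κ : ℂ, (ρ g + ρ g⁻¹ : Module.End ℂ V) * eU ρ cs h X = κ • eU ρ cs h X := by
  by_cases h0 : eU ρ cs h X = 0
  · exact ⟨0, by rw [h0, mul_zero, smul_zero]⟩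
  have hst : ∀ v ∈ LinearMap.range (eU ρ cs h X), (ρ g + ρ g⁻¹ : Module.End ℂ V) v ∈ LinearMap.range (eU ρ cs h X) := by
    rintro _ ⟨v, rfl⟩
    refine ⟨(ρ g + ρ g⁻¹ : Module.End ℂ V) v, ?_⟩
    rw [LinearMap.add_apply, LinearMap.add_apply, map_add, ← comm_eU_apply R hg, ← comm_eU_apply R (inv_mem hg)]
  have hnt : Nontrivial (LinearMap.range (eU ρ cs h X)) := by
    rw [Submodule.nontrivial_iff_ne_bot]
    intro h1
    exact h0 (LinearMap.range_eq_bot.1 h1)
  obtain ⟨κ, hκ⟩ := Module.End.exists_eigenvalue ((ρ g + ρ g⁻¹ : Module.End ℂ V).restrict hst)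
  obtain ⟨⟨f, hf⟩, hf1⟩ := hκ.exists_hasEigenvector
  have hf0 : f ≠ 0 := fun h1 => hf1.2 (Subtype.ext h1)
  have hfe : (ρ g + ρ g⁻¹ : Module.End ℂ V) f = κ • f := by
    have h1 := hf1.1
    rw [Module.End.mem_eigenspace_iff] at h1
    exact congrArg Subtype.val h1
  have hfU : ∀ u ∈ RGD.Sup X (RGD.Pos cs h), ρ u f = f := by
    intro u hu
    obtain ⟨v, rfl⟩ := hf
    exact eU_fix R hu v
  refine ⟨κ, ?_⟩
  have key := irr_kill ρ hρ (y := (ρ g + ρ g⁻¹ : Module.End ℂ V) * eU ρ cs h X - κ • eU ρ cs h X) hf0 fun x => ?_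
  · exact sub_eq_zero.1 key
  obtain ⟨u, hu, w, k, hk, u', hu', rfl⟩ := exists_unu R hG x
  rw [LinearMap.sub_apply, LinearMap.smul_apply, Module.End.mul_apply, eU_unu R hu hu' hfU, LinearMap.add_apply,
    comm_eU_apply R hg, comm_eU_apply R (inv_mem hg), ← map_add, ← apply_mul R, ← apply_mul R]
  have e1 : g * k = k * (k⁻¹ * g * k) := by group
  have e2 : g⁻¹ * k = k * (k⁻¹ * g * k)⁻¹ := by group
  have e3 : ρ (g * k) f + ρ (g⁻¹ * k) f = ρ k (κ • f) := by
    rw [e1, e2, apply_mul R k, apply_mul R k, ← map_add]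
    congr 1
    rw [← hfe, LinearMap.add_apply]
    rcases hN w k hk with h1 | h1
    · rw [h1]
    · rw [h1, inv_inv, add_comm]
  rw [e3, map_smul, map_smul, sub_self]

/-- the number of the `w` with `w α_i > 0` is half of the order of `W` -/
theorem two_mul_card [Finite W] (i : I) : 2 * Nat.card {w : W // 0 ≤ rep cs h w (sr i)} = Nat.card W := by
  classical
  have := Fintype.ofFinite W
  have h1 : ∀ w : W, 0 ≤ rep cs h (w * cs.simple i) (sr i) ↔ ¬ 0 ≤ rep cs h w (sr i) := by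
    intro w
    rw [rep_mul_apply, rep_simple_sr, map_neg]
    constructor
    · intro h2 h3
      exact ((isRoot_sr cs h i).act w).not_pos_neg h3 (neg_nonneg.1 h2)
    · intro h2
      exact neg_nonneg.2 ((((isRoot_sr cs h i).act w).pos_or_neg).resolve_left h2)
  have h2 : Nat.card {w : W // ¬ 0 ≤ rep cs h w (sr i)} = Nat.card {w : W // 0 ≤ rep cs h w (sr i)} := by
    refine Nat.card_congr ⟨fun w => ⟨w.1 * cs.simple i, (h1 _).2 w.2⟩, fun w => ⟨w.1 * cs.simple i, ?_⟩, ?_, ?_⟩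
    · rw [h1, not_not]
      exact w.2
    · intro w
      exact Subtype.ext (by simp [mul_assoc])
    · intro w
      exact Subtype.ext (by simp [mul_assoc])
  rw [Nat.card_eq_fintype_card, Nat.card_eq_fintype_card] at h2
  rw [Nat.card_eq_fintype_card, Nat.card_eq_fintype_card]
  have h3 := Fintype.card_subtype_compl (fun w : W => 0 ≤ rep cs h w (sr i))
  have h4 := Fintype.card_subtype_le (fun w : W => 0 ≤ rep cs h w (sr i))
  rw [h2] at h3
  omega

/-- **`2 dim V^U ≤ |W|`** -/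
theorem finrank_M [Finite W] (hG : GG cs h T X = ⊤) (hρ : ρ.IsIrreducible) {i : I} {v : V} (hv : v ≠ 0)
    (hvU : ∀ u ∈ RGD.Sup X (RGD.Pos cs h), ρ u v = v) (hvT : ∀ t ∈ T, ∃ c : ℂ, ρ t v = c • v) {c : ℂ}
    (hc : eU ρ cs h X (ρ (n i) v) = c • v) :
    2 * Module.finrank ℂ (LinearMap.range (eU ρ cs h X)) ≤ Nat.card W := by
  classical
  choose kk hkk using exists_rp cs R.nsys
  set b : {w : W // 0 ≤ rep cs h w (sr i)} → V := fun w => eU ρ cs h X (ρ (kk w.1) v) with hb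
  have hle : LinearMap.range (eU ρ cs h X) ≤ Submodule.span ℂ (Set.range b) := by
    -- elements of the normaliser
    have h1 : ∀ (w : W) (k : Y), Rp cs R.nsys w k → 0 ≤ rep cs h w (sr i) →
        eU ρ cs h X (ρ k v) ∈ Submodule.span ℂ (Set.range b) := by
      intro w k hk hw
      have h2 : (kk w)⁻¹ * k ∈ T := (hkk w).unique hk
      obtain ⟨d, hd⟩ := hvT _ h2
      have h3 : k = kk w * ((kk w)⁻¹ * k) := by group
      rw [h3, apply_mul R, hd, map_smul, map_smul]
      exact Submodule.smul_mem _ _ (Submodule.subset_span ⟨⟨w, hw⟩, rfl⟩)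
    refine irr_range ρ hρ _ hv _ fun g => ?_
    obtain ⟨u, hu, w, k, hk, u', hu', rfl⟩ := exists_unu R hG g
    rw [eU_unu R hu hu' hvU]
    by_cases hw : 0 ≤ rep cs h w (sr i)
    · exact h1 w k hk hw
    · -- `k = k' n_i`
      have hk' : Rp cs R.nsys (w * cs.simple i) (k * (n i)⁻¹) := by
        have := hk.mul (rp_simple cs R.nsys i).inv
        rwa [cs.inv_simple] at this
      have hw' : 0 ≤ rep cs h (w * cs.simple i) (sr i) := by
        rw [rep_mul_apply, rep_simple_sr, map_neg]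
        exact neg_nonneg.2 ((((isRoot_sr cs h i).act w).pos_or_neg).resolve_left hw)
      have hfixV : ∀ u ∈ VJ cs h X {i}, ρ u (ρ (n i) v) = ρ (n i) v := by
        intro u hu
        have h3 : u * n i = n i * ((n i)⁻¹ * u * n i) := by group
        have h4 : (n i)⁻¹ * u * n i ∈ VJ cs h X {i} := by
          have := (Subgroup.mem_normalizer_iff.1 (inv_mem (n_mem_normalizer_VJ R i)) u).1 hu
          rwa [inv_inv] at this
        rw [← apply_mul R, h3, apply_mul R, hvU _ (VJ_le_U {i} h4)]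
      have h5 : eU ρ cs h X (ρ (k * (n i)⁻¹) (eU ρ cs h X (ρ (n i) v))) = eU ρ cs h X (ρ k v) := by
        have h6 : eU ρ cs h X (ρ (n i) v) = av ρ (X (sr i)) (ρ (n i) v) := by
          rw [eU_eq R i, Module.End.mul_apply]
          congr 1
          exact av_vec ρ hfixV
        have h7 : eU ρ cs h X * ρ (k * (n i)⁻¹) * av ρ (X (sr i)) = eU ρ cs h X * ρ (k * (n i)⁻¹) := by
          refine av_of_right ρ fun x hx => ?_
          rw [mul_assoc, ← map_mul]
          have h8 : k * (n i)⁻¹ * x = (k * (n i)⁻¹ * x * (k * (n i)⁻¹)⁻¹) * (k * (n i)⁻¹) := by group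
          have h9 : k * (n i)⁻¹ * x * (k * (n i)⁻¹)⁻¹ ∈ RGD.Sup X (RGD.Pos cs h) :=
            RGD.le_Sup (S := RGD.Pos cs h) ⟨(isRoot_sr cs h i).act _, hw'⟩
              (R.conj_mem hk' (isRoot_sr cs h i) hx)
          rw [h8, map_mul, ← mul_assoc]
          have h10 : eU ρ cs h X * ρ (k * (n i)⁻¹ * x * (k * (n i)⁻¹)⁻¹) = eU ρ cs h X := av_mul ρ h9
          rw [h10]
        rw [h6]
        have h11 := LinearMap.congr_fun h7 (ρ (n i) v)
        have h12 : (eU ρ cs h X * ρ (k * (n i)⁻¹) * av ρ (X (sr i))) (ρ (n i) v) =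
          eU ρ cs h X (ρ (k * (n i)⁻¹) (av ρ (X (sr i)) (ρ (n i) v))) := rfl
        have h13 : (eU ρ cs h X * ρ (k * (n i)⁻¹)) (ρ (n i) v) = eU ρ cs h X (ρ (k * (n i)⁻¹) (ρ (n i) v)) := rfl
        rw [h12, h13, ← apply_mul R (k * (n i)⁻¹), inv_mul_cancel_right] at h11
        exact h11
      rw [← h5, hc, map_smul, map_smul]
      exact Submodule.smul_mem _ _ (h1 _ _ hk' hw')
  have h2 : Module.finrank ℂ (LinearMap.range (eU ρ cs h X)) ≤ Nat.card {w : W // 0 ≤ rep cs h w (sr i)} := by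
    have := Fintype.ofFinite {w : W // 0 ≤ rep cs h w (sr i)}
    rw [Nat.card_eq_fintype_card]
    exact (Submodule.finrank_mono hle).trans (finrank_range_le_card b)
  rw [← two_mul_card R i]
  exact Nat.mul_le_mul_left 2 h2


omit R in
/-- a common eigenvector of a commutative group in the image of an idempotent -/
theorem exists_eigen_T {π : Module.End ℂ V} (hππ : π * π = π) (hπ : ∀ t ∈ T, ρ t * π = π * ρ t) (hπ0 : π ≠ 0)
    (hT : ∀ s ∈ T, ∀ t ∈ T, s * t = t * s) :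
    ∃ v : V, v ≠ 0 ∧ π v = v ∧ ∀ t ∈ T, ∃ c : ℂ, ρ t v = c • v := by
  have hst : ∀ t : T, ∀ v ∈ LinearMap.range π, ρ t v ∈ LinearMap.range π := by
    rintro t _ ⟨v, rfl⟩
    exact ⟨ρ t v, (LinearMap.congr_fun (hπ t t.2) v).symm⟩
  let σ : T →* Module.End ℂ (LinearMap.range π) :=
    { toFun := fun t => (ρ t).restrict (hst t)
      map_one' := by
        ext v
        show ρ ((1 : T) : Y) (v : V) = v
        rw [OneMemClass.coe_one, map_one]
        rfl
      map_mul' := by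
        intro a b
        ext v
        show ρ ((a * b : T) : Y) (v : V) = ρ a (ρ b v)
        rw [Subgroup.coe_mul, map_mul]
        rfl }
  have hnt : Nontrivial (LinearMap.range π) := by
    rw [Submodule.nontrivial_iff_ne_bot]
    intro h1
    exact hπ0 (LinearMap.range_eq_bot.1 h1)
  obtain ⟨⟨v, hv⟩, hv0, hvc⟩ := Cfsg.Agent.H456.exists_common_eigenvector σ (⊤ : Subgroup T)
    fun a _ b _ => Subtype.ext (hT a a.2 b b.2)
  refine ⟨v, fun h1 => hv0 (Subtype.ext h1), ?_, fun t ht => ?_⟩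
  · obtain ⟨x, rfl⟩ := hv
    exact LinearMap.congr_fun hππ x
  · obtain ⟨c, hc⟩ := hvc ⟨t, ht⟩ (Subgroup.mem_top _)
    exact ⟨c, congrArg Subtype.val hc⟩

/-- `e_(V_j) k f = 0` -/
theorem key_zero [Finite W] (h0 : eU ρ cs h X = 0) {i j : I} {f : V} (hf : ∀ u ∈ VJ cs h X {i}, ρ u f = f) {w : W}
    {k : Y} (hk : Rp cs R.nsys w k) (hw1 : rep cs h w⁻¹ (sr j) ≠ sr i) (hw2 : rep cs h w⁻¹ (sr j) ≠ -sr i) :
    eV ρ cs h X j (ρ k f) = 0 := by
  have hz : ∀ v : V, (∀ u ∈ RGD.Sup X (RGD.Pos cs h), ρ u v = v) → v = 0 := by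
    intro v hv
    rw [← eU_of_fix R hv, h0]
    rfl
  have hr := (isRoot_sr cs h j).act w⁻¹
  rcases hr.pos_or_neg with h1 | h1
  · refine hz _ (fix_pos R hk fun u hu => ?_)
    refine hf u (RGD.le_Sup (S := NotJ cs h {i}) ?_ hu)
    rcases mem_PosJ_or_NotJ {i} hr h1 with h2 | h2
    · exfalso
      rcases eq_of_mem_RootsJ R (PosJ_subset {i} h2) with h3 | h3
      · exact hw1 h3
      · exact hw2 h3
    · exact h2
  · have h2 : ρ (n j)⁻¹ (eV ρ cs h X j (ρ k f)) = 0 := by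
      refine hz _ (fix_neg R hk (f := f) fun u hu => ?_)
      refine hf u (RGD.le_Sup (S := NotJ cs h {i}) ?_ hu)
      rw [map_neg]
      rcases mem_PosJ_or_NotJ {i} hr.neg (neg_nonneg.2 h1) with h2 | h2
      · exfalso
        rcases eq_of_mem_RootsJ R (PosJ_subset {i} h2) with h3 | h3
        · exact hw2 (by rw [← h3, neg_neg])
        · exact hw1 (neg_injective h3)
      · exact h2
    have h3 := congrArg (ρ (n j)) h2
    rw [← apply_mul R, mul_inv_cancel, map_one, map_zero] at h3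
    exact h3

/-- **the dimension of `V^(V_i)`, `V^U = 0`** -/
theorem finrank_V [Finite W] (hG : GG cs h T X = ⊤) (hρ : ρ.IsIrreducible) (h0 : eU ρ cs h X = 0) {i : I}
    (hV : eV ρ cs h X i ≠ 0) {n' : Y} (hn' : ∀ l ∈ LJ cs h T X {i}, n'⁻¹ * l * n' ∈ LJ cs h T X {i} ∧
      n' * l * n'⁻¹ ∈ LJ cs h T X {i})
    (hdich : ∀ (w : W) (k : Y), Rp cs R.nsys w k → (rep cs h w⁻¹ (sr i) = sr i ∨ rep cs h w⁻¹ (sr i) = -sr i) →
      k ∈ LJ cs h T X {i} ∨ n'⁻¹ * k ∈ LJ cs h T X {i}) :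
    ∃ d : ℕ, d ∣ Nat.card (LJ cs h T X {i}) ∧ (Module.finrank ℂ (LinearMap.range (eV ρ cs h X i)) = d ∨
      Module.finrank ℂ (LinearMap.range (eV ρ cs h X i)) = 2 * d) := by
  classical
  set L := LJ cs h T X {i} with hL
  have hLn : ∀ l ∈ L, l ∈ Subgroup.normalizer (VJ cs h X {i} : Set Y) := fun l hl => LJ_le_normalizer_VJ R {i} hl
  let σ : Representation ℂ L V := MonoidHom.comp ρ L.subtype
  have hEst : ∀ l ∈ L, ∀ v ∈ LinearMap.range (eV ρ cs h X i), ρ l v ∈ LinearMap.range (eV ρ cs h X i) := by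
    rintro l hl _ ⟨v, rfl⟩
    exact ⟨ρ l v, eV_comm R (hLn l hl) v⟩
  let EE : Subrepresentation σ :=
    { toSubmodule := LinearMap.range (eV ρ cs h X i)
      apply_mem_toSubmodule := fun l v hv => hEst l l.2 v hv }
  have hnt : Nontrivial EE.toSubmodule := by
    rw [Submodule.nontrivial_iff_ne_bot]
    intro h1
    exact hV (LinearMap.range_eq_bot.1 h1)
  obtain ⟨U, hU⟩ := Cfsg.Agent.Characters.Core.exists_irreducible_sub EE.toRepresentation
  set D := Cfsg.Agent.Characters.Core.mapSub EE U with hD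
  set δ := D.toSubmodule with hδ
  have hδE : δ ≤ LinearMap.range (eV ρ cs h X i) := by
    rintro _ ⟨v, _, rfl⟩
    exact v.2
  have hδst : ∀ l ∈ L, ∀ v ∈ δ, ρ l v ∈ δ := fun l hl v hv => D.apply_mem_toSubmodule ⟨l, hl⟩ hv
  have hfin : Module.finrank ℂ δ = Module.finrank ℂ U.toSubmodule := Submodule.finrank_map_subtype_eq _ _
  have hdvd : Module.finrank ℂ δ ∣ Nat.card L := by
    rw [hfin]
    have := hU
    exact Cfsg.Agent.Characters.DegreeBounds.finrank_dvd_card U.toRepresentation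
  -- minimality
  have hmin : ∀ N : Submodule ℂ V, N ≤ δ → (∀ l ∈ L, ∀ v ∈ N, ρ l v ∈ N) → N = ⊥ ∨ N = δ := by
    intro N hN hNst
    let N' : Subrepresentation U.toRepresentation :=
      { toSubmodule := (N.comap EE.toSubmodule.subtype).comap U.toSubmodule.subtype
        apply_mem_toSubmodule := fun l v hv => hNst l l.2 _ hv }
    have hmap : N = N'.toSubmodule.map (EE.toSubmodule.subtype ∘ₗ U.toSubmodule.subtype) := by
      apply le_antisymm
      · intro v hv
        obtain ⟨u, hu, rfl⟩ := hN hv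
        exact ⟨⟨u, hu⟩, hv, rfl⟩
      · rintro _ ⟨u, hu, rfl⟩
        exact hu
    rcases hU.eq_bot_or_eq_top N' with h1 | h1
    · left
      rw [hmap, h1]
      exact Submodule.map_bot _
    · right
      rw [hmap, h1]
      apply le_antisymm
      · rintro _ ⟨u, _, rfl⟩
        exact ⟨u.1, u.2, rfl⟩
      · rintro _ ⟨u, hu, rfl⟩
        exact ⟨⟨u, hu⟩, Submodule.mem_top, rfl⟩
  have hδ0 : δ ≠ ⊥ := by
    intro h1
    have h2 : Module.finrank ℂ U.toSubmodule = 0 := by rw [← hfin, h1, finrank_bot]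
    have h3 := Cfsg.Agent.Characters.Central.finrank_pos_of_irr U.toRepresentation hU
    omega
  have hδV : ∀ v ∈ δ, ∀ u ∈ VJ cs h X {i}, ρ u v = v := by
    intro v hv u hu
    obtain ⟨x, rfl⟩ := hδE hv
    exact eV_fix R hu x
  obtain ⟨f, hf, hf0⟩ := Submodule.exists_mem_ne_zero_of_ne_bot hδ0
  -- the map `x`
  set x : Module.End ℂ V := eV ρ cs h X i * ρ n' with hx
  have hxapp : ∀ v, x v = eV ρ cs h X i (ρ n' v) := fun v => rfl
  have hxl : ∀ l ∈ L, ∀ v, ρ l (x v) = x (ρ (n'⁻¹ * l * n') v) := by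
    intro l hl v
    rw [hxapp, hxapp, ← eV_comm R (hLn l hl), ← apply_mul R, ← apply_mul R]
    congr 3
    group
  have hxl' : ∀ l ∈ L, ∀ v, x (ρ l v) = ρ (n' * l * n'⁻¹) (x v) := by
    intro l hl v
    rw [hxl _ ((hn' l hl).2)]
    congr 3
    group
  have hXst : ∀ l ∈ L, ∀ v ∈ δ.map x, ρ l v ∈ δ.map x := by
    rintro l hl _ ⟨v, hv, rfl⟩
    exact ⟨_, hδst _ (hn' l hl).1 v hv, (hxl l hl v).symm⟩
  have hEeq : LinearMap.range (eV ρ cs h X i) = δ ⊔ δ.map x := by
    apply le_antisymm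
    · have hst : ∀ l ∈ L, ∀ v ∈ δ ⊔ δ.map x, ρ l v ∈ δ ⊔ δ.map x := by
        intro l hl v hv
        obtain ⟨a, ha, b, hb, rfl⟩ := Submodule.mem_sup.1 hv
        rw [map_add]
        exact Submodule.add_mem_sup (hδst l hl a ha) (hXst l hl b hb)
      have hXL : ∀ a ∈ X (sr i), a ∈ L := fun a ha =>
        X_le_LJ (PosJ_subset {i} (sr_mem_PosJ (Set.mem_singleton i))) ha
      refine irr_range ρ hρ _ hf0 _ fun g => ?_
      obtain ⟨u, hu, w, k, hk, u', hu', rfl⟩ := exists_unu R hG g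
      obtain ⟨a, ha, b, hb, e⟩ := mem_U_split R i (inv_mem hu)
      have e' : u = b⁻¹ * a⁻¹ := by rw [← mul_inv_rev, ← e, inv_inv]
      obtain ⟨a', ha', b', hb', e2⟩ := mem_U_split R i hu'
      rw [e', mul_assoc, mul_assoc, apply_mul R, eV_absorb R (inv_mem hb), apply_mul R,
        eV_comm R (X_le_normalizer_VJ R i (inv_mem ha)), apply_mul R]
      refine hst _ (hXL _ (inv_mem ha)) _ ?_
      have hf' : ρ u' f ∈ δ := by
        rw [e2, apply_mul R, hδV f hf _ hb']
        exact hδst _ (hXL _ ha') f hf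
      by_cases hw : rep cs h w⁻¹ (sr i) = sr i ∨ rep cs h w⁻¹ (sr i) = -sr i
      · rcases hdich w k hk hw with h1 | h1
        · refine Submodule.mem_sup_left ?_
          have h2 := hδst k h1 _ hf'
          have h3 : eV ρ cs h X i (ρ k (ρ u' f)) = ρ k (ρ u' f) := av_vec ρ (hδV _ h2)
          rw [h3]
          exact h2
        · refine Submodule.mem_sup_right ⟨ρ (n'⁻¹ * k) (ρ u' f), hδst _ h1 _ hf', ?_⟩
          rw [hxapp, ← apply_mul R, mul_inv_cancel_left]
      · push Not at hw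
        rw [key_zero R h0 (hδV _ hf') hk hw.1 hw.2]
        exact Submodule.zero_mem _
    · refine sup_le hδE ?_
      rintro _ ⟨v, _, rfl⟩
      exact ⟨_, rfl⟩
  refine ⟨Module.finrank ℂ δ, hdvd, ?_⟩
  have hker := hmin (δ ⊓ LinearMap.ker x) inf_le_left fun l hl v hv => by
    refine ⟨hδst l hl v hv.1, ?_⟩
    rw [SetLike.mem_coe, LinearMap.mem_ker, hxl' l hl, (LinearMap.mem_ker.1 hv.2), map_zero]
  rcases hker with hker | hker
  · -- injective
    have hfx : Module.finrank ℂ (δ.map x) = Module.finrank ℂ δ := by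
      have h1 : Function.Injective (x.domRestrict δ) := by
        rw [← LinearMap.ker_eq_bot, eq_bot_iff]
        intro v hv
        have h2 : (v : V) ∈ δ ⊓ LinearMap.ker x := ⟨v.2, hv⟩
        rw [hker, Submodule.mem_bot] at h2
        exact (Submodule.mem_bot ℂ).2 (Subtype.ext h2)
      have h2 : δ.map x = LinearMap.range (x.domRestrict δ) := by
        rw [LinearMap.range_domRestrict]
      rw [h2]
      exact LinearMap.finrank_range_of_inj h1
    rcases hmin (δ ⊓ δ.map x) inf_le_left fun l hl v hv => ⟨hδst l hl v hv.1, hXst l hl v hv.2⟩ with h1 | h1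
    · right
      have h2 := Submodule.finrank_sup_add_finrank_inf_eq δ (δ.map x)
      rw [h1, finrank_bot, hfx] at h2
      rw [hEeq]
      omega
    · left
      have h2 : δ ≤ δ.map x := inf_eq_left.1 h1
      have h3 : δ = δ.map x := Submodule.eq_of_le_of_finrank_eq h2 hfx.symm
      rw [hEeq, ← h3, sup_idem]
  · left
    have h1 : δ.map x = ⊥ := by
      rw [eq_bot_iff]
      rintro _ ⟨v, hv, rfl⟩
      have h2 : v ∈ δ ⊓ LinearMap.ker x := by rw [hker]; exact hv
      exact (Submodule.mem_bot ℂ).2 (LinearMap.mem_ker.1 h2.2)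
    rw [hEeq, h1, sup_bot_eq]

end Scal

end Cfsg.Agent.H866.OZ
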