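import Mathlib
import Cfsg.Agent.H866.OZ.Mod
import Cfsg.Agent.H631.Kaw.Coef
import Cfsg.Agent.H769.Kaw.Main

/-!
# S4842: the sum of a character over the `p`-elements (helper866)

* `kaw_sum` : the alternating sum formula;
* `lam_nonneg` : it is a nonnegative multiple of the degree if `V^U ≠ 0`.
-/

set_option autoImplicit false
set_option linter.unusedSectionVars false
set_option maxHeartbeats 400000

namespace Cfsg.Agent.H866.OZ

open CoxeterSystem Cfsg.Agent.ChevalleyStructure.CoxeterGeom Cfsg.Agent.Tits.Roots Cfsg.Agent.Tits.Core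
  Cfsg.Agent.Tits.Exchange Cfsg.Agent.Nodes.Reps Cfsg.Agent.Nodes.BNOf Cfsg.Agent.Nodes.StabComb
  Cfsg.Agent.Nodes.Bruhat Cfsg.Agent.Nodes.OppDec Cfsg.Agent.Nodes.LeviDec Cfsg.Agent.Nodes.NormalForm
open Cfsg.Agent.H866.D4Wf (eq_of_mem_RootsJ)
open Cfsg.Agent.H631.Kaw (S pel mem_pel fixV coef coef_eq_one coef_of_not_mem card_eq_fixV)
open Cfsg.Agent.H769.Kaw (kaw_cusp sm)
open LinearMap (trace)
open scoped ComplexOrder

variable {I W Y : Type*} [Fintype I] [DecidableEq I] [Group W] [Group Y] [Finite Y] {M : CoxeterMatrix I}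
  {cs : CoxeterSystem M W} {A : I → I → ℤ} {h : IsCartan M A} {p : ℕ} {T : Subgroup Y} {n : I → Y}
  {X : (I → ℤ) → Subgroup Y} {V : Type*} [AddCommGroup V] [Module ℂ V] [FiniteDimensional ℂ V]
  {ρ : Representation ℂ Y V} (R : RGD cs h p T n X)

include R

/-- one term of the alternating sum -/
theorem sum_fixV [Finite W] [Fintype Y] (K : Finset I) :
    (Nat.card (PJ cs h T X (K : Set I)) : ℂ) * ∑ g : Y, (fixV cs h T X K g : ℂ) * trace ℂ V (ρ g) =
      (Nat.card Y : ℂ) * ((Nat.card (VJ cs h X (K : Set I)) : ℂ) * trace ℂ V (av ρ (VJ cs h X (K : Set I)))) := by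
  classical
  have h1 : ∀ g : Y, (Nat.card (PJ cs h T X (K : Set I)) : ℂ) * ((fixV cs h T X K g : ℂ) * trace ℂ V (ρ g)) =
      ∑ x : Y, if x⁻¹ * g * x ∈ VJ cs h X (K : Set I) then trace ℂ V (ρ g) else 0 := by
    intro g
    rw [← mul_assoc, ← Nat.cast_mul, ← card_eq_fixV R K g, ← Finset.sum_filter, Finset.sum_const, nsmul_eq_mul,
      Nat.card_eq_fintype_card, Fintype.card_subtype]
  rw [Finset.mul_sum, Finset.sum_congr rfl fun g _ => h1 g, Finset.sum_comm]
  have h2 : ∀ x : Y, (∑ g : Y, if x⁻¹ * g * x ∈ VJ cs h X (K : Set I) then trace ℂ V (ρ g) else 0) =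
      (Nat.card (VJ cs h X (K : Set I)) : ℂ) * trace ℂ V (av ρ (VJ cs h X (K : Set I))) := by
    intro x
    rw [trace_av_eq]
    have h3 : (Set.toFinite ((VJ cs h X (K : Set I) : Subgroup Y) : Set Y)).toFinset =
        Finset.univ.filter (fun g => g ∈ VJ cs h X (K : Set I)) := by
      ext y; simp
    rw [h3, Finset.sum_filter, ← Equiv.sum_comp (MulAut.conj x).toEquiv]
    refine Finset.sum_congr rfl fun g _ => ?_
    show (if x⁻¹ * (MulAut.conj x g) * x ∈ VJ cs h X (K : Set I) then trace ℂ V (ρ (MulAut.conj x g)) else 0) =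
      if g ∈ VJ cs h X (K : Set I) then trace ℂ V (ρ g) else 0
    have h4 : x⁻¹ * (MulAut.conj x g) * x = g := by rw [MulAut.conj_apply]; group
    have h5 : trace ℂ V (ρ (MulAut.conj x g)) = trace ℂ V (ρ g) := by
      rw [MulAut.conj_apply, map_mul ρ, LinearMap.trace_mul_comm, ← map_mul, ← mul_assoc, inv_mul_cancel, one_mul]
    rw [h4, h5]
  rw [Finset.sum_congr rfl fun x _ => h2 x, Finset.sum_const, Finset.card_univ, nsmul_eq_mul,
    Nat.card_eq_fintype_card (α := Y)]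

/-- **the sum over the `p`-elements** -/
theorem kaw_sum [Finite W] [Fact p.Prime] (hG : GG cs h T X = ⊤) :
    ∑ g ∈ pel Y p, trace ℂ V (ρ g) = ∑ K : Finset I, (-1 : ℂ) ^ K.card * (Nat.card (UJ cs h X (K : Set I)) : ℂ) *
      ((Nat.card Y : ℂ) / (Nat.card (PJ cs h T X (K : Set I)) : ℂ)) *
      ((Nat.card (VJ cs h X (K : Set I)) : ℂ) * trace ℂ V (av ρ (VJ cs h X (K : Set I)))) := by
  classical
  have := Fintype.ofFinite Y
  have h1 : ∑ g ∈ pel Y p, trace ℂ V (ρ g) = ∑ g : Y, (coef cs h T X g : ℂ) * trace ℂ V (ρ g) := by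
    rw [← Finset.sum_subset (Finset.subset_univ (pel Y p)) (f := fun g => (coef cs h T X g : ℂ) * trace ℂ V (ρ g))
      fun g _ hg => by rw [coef_of_not_mem R hg, Int.cast_zero, zero_mul]]
    refine Finset.sum_congr rfl fun g hg => ?_
    rw [coef_eq_one R hG hg, Int.cast_one, one_mul]
  rw [h1]
  have h2 : ∀ g : Y, (coef cs h T X g : ℂ) * trace ℂ V (ρ g) = ∑ K : Finset I, (-1 : ℂ) ^ K.card *
      (Nat.card (UJ cs h X (K : Set I)) : ℂ) * ((fixV cs h T X K g : ℂ) * trace ℂ V (ρ g)) := by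
    intro g
    unfold coef
    push_cast
    rw [Finset.sum_mul]
    exact Finset.sum_congr rfl fun K _ => by ring
  rw [Finset.sum_congr rfl fun g _ => h2 g, Finset.sum_comm]
  refine Finset.sum_congr rfl fun K _ => ?_
  rw [← Finset.mul_sum]
  have h3 := sum_fixV (ρ := ρ) R K
  have h4 : (Nat.card (PJ cs h T X (K : Set I)) : ℂ) ≠ 0 := card_ne _
  rw [mul_assoc, mul_assoc, mul_assoc]
  congr 2
  rw [div_mul_eq_mul_div, eq_div_iff h4, mul_comm]
  exact h3


theorem VJ_empty : VJ cs h X (((∅ : Finset I) : Set I)) = RGD.Sup X (RGD.Pos cs h) := by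
  apply le_antisymm (VJ_le_U _)
  refine RGD.Sup_le fun x hx => RGD.le_Sup (S := NotJ cs h _) ?_
  rcases mem_PosJ_or_NotJ (((∅ : Finset I) : Set I)) hx.1 hx.2 with h1 | h1
  · exfalso
    apply hx.1.ne_zero
    funext k
    exact h1.2.2 k (by simp)
  · exact h1

theorem UJ_empty : UJ cs h X (((∅ : Finset I) : Set I)) = ⊥ := by
  rw [eq_bot_iff]
  refine RGD.Sup_le fun x hx => ?_
  exact absurd (funext fun k => hx.2.2 k (by simp)) hx.1.ne_zero

omit R in
/-- an invariant hermitian form -/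
noncomputable def hb {N : ℕ} (ρ : Representation ℂ Y (Fin N → ℂ)) [Fintype Y] (v w : Fin N → ℂ) : ℂ :=
  ∑ g : Y, dotProduct (star (ρ g v)) (ρ g w)

omit R in
theorem hb_inv {N : ℕ} (ρ : Representation ℂ Y (Fin N → ℂ)) [Fintype Y] (x : Y) (v w : Fin N → ℂ) :
    hb ρ (ρ x v) (ρ x w) = hb ρ v w := by
  unfold hb
  rw [← Equiv.sum_comp (Equiv.mulRight x) (fun g => dotProduct (star (ρ g v)) (ρ g w))]
  refine Finset.sum_congr rfl fun g _ => ?_
  show dotProduct (star (ρ g (ρ x v))) (ρ g (ρ x w)) = dotProduct (star (ρ (g * x) v)) (ρ (g * x) w)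
  rw [map_mul]
  rfl

omit R in
theorem hb_adj {N : ℕ} (ρ : Representation ℂ Y (Fin N → ℂ)) [Fintype Y] (x : Y) (v w : Fin N → ℂ) :
    hb ρ v (ρ x w) = hb ρ (ρ x⁻¹ v) w := by
  rw [← hb_inv ρ x⁻¹ v (ρ x w)]
  congr 1
  have : ρ x⁻¹ (ρ x w) = (ρ x⁻¹ * ρ x) w := rfl
  rw [this, ← map_mul, inv_mul_cancel, map_one]
  rfl

omit R in
theorem hb_sum {N : ℕ} (ρ : Representation ℂ Y (Fin N → ℂ)) [Fintype Y] {ι : Type*} (s : Finset ι)
    (v : Fin N → ℂ) (w : ι → Fin N → ℂ) : hb ρ v (∑ a ∈ s, w a) = ∑ a ∈ s, hb ρ v (w a) := by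
  unfold hb
  rw [Finset.sum_comm]
  refine Finset.sum_congr rfl fun g _ => ?_
  rw [map_sum, dotProduct_sum]

omit R in
theorem hb_sum_left {N : ℕ} (ρ : Representation ℂ Y (Fin N → ℂ)) [Fintype Y] {ι : Type*} (s : Finset ι)
    (v : Fin N → ℂ) (w : ι → Fin N → ℂ) : hb ρ (∑ a ∈ s, w a) v = ∑ a ∈ s, hb ρ (w a) v := by
  unfold hb
  rw [Finset.sum_comm]
  refine Finset.sum_congr rfl fun g _ => ?_
  rw [map_sum, star_sum, sum_dotProduct]

omit R in
theorem hb_smul {N : ℕ} (ρ : Representation ℂ Y (Fin N → ℂ)) [Fintype Y] (c : ℂ) (v w : Fin N → ℂ) :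
    hb ρ v (c • w) = c * hb ρ v w := by
  unfold hb
  rw [Finset.mul_sum]
  refine Finset.sum_congr rfl fun g _ => ?_
  rw [map_smul, dotProduct_smul, smul_eq_mul]

omit R in
theorem hb_nonneg {N : ℕ} (ρ : Representation ℂ Y (Fin N → ℂ)) [Fintype Y] (v : Fin N → ℂ) : 0 ≤ hb ρ v v :=
  Finset.sum_nonneg fun _ _ => dotProduct_star_self_nonneg _

omit R in
theorem hb_pos {N : ℕ} (ρ : Representation ℂ Y (Fin N → ℂ)) [Fintype Y] {v : Fin N → ℂ} (hv : v ≠ 0) : 0 < hb ρ v v := by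
  unfold hb
  refine Finset.sum_pos' (fun _ _ => dotProduct_star_self_nonneg _) ⟨1, Finset.mem_univ _, ?_⟩
  rw [map_one]
  exact Matrix.dotProduct_star_self_pos_iff.2 hv


theorem lam_nonneg [Finite W] [Fact p.Prime] (hG : GG cs h T X = ⊤) {N : ℕ}
    (ρ : Representation ℂ Y (Fin N → ℂ)) (hρ : ρ.IsIrreducible) (h0 : eU ρ cs h X ≠ 0) {c : ℂ}
    (hc : ∑ g ∈ pel Y p, ρ.character g = c * ρ.character 1) : ∃ r s : ℝ, 0 < r ∧ 0 ≤ s ∧ c * r = s := by
  classical
  have := Fintype.ofFinite Y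
  obtain ⟨v, hv⟩ : ∃ v, eU ρ cs h X v ≠ 0 := by
    by_contra hcon
    push Not at hcon
    exact h0 (LinearMap.ext hcon)
  set f := eU ρ cs h X v with hf
  have hfU : ∀ u ∈ RGD.Sup X (RGD.Pos cs h), ρ u f = f := fun u hu => eU_fix R hu v
  -- the central element
  have hcen : ∀ x : Y, (∑ g ∈ pel Y p, ρ g) * ρ x = ρ x * (∑ g ∈ pel Y p, ρ g) := by
    intro x
    rw [Finset.sum_mul, Finset.mul_sum]
    refine Finset.sum_nbij' (fun g => x⁻¹ * g * x) (fun g => x * g * x⁻¹) ?_ ?_ ?_ ?_ ?_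
    · intro g hg
      obtain ⟨k, hk⟩ := mem_pel.1 hg
      refine mem_pel.2 ⟨k, ?_⟩
      rw [← hk]
      have h2 : x⁻¹ * g * x = MulAut.conj x⁻¹ g := by rw [MulAut.conj_apply, inv_inv]
      rw [h2]
      exact MulEquiv.orderOf_eq _ g
    · intro g hg
      obtain ⟨k, hk⟩ := mem_pel.1 hg
      refine mem_pel.2 ⟨k, ?_⟩
      rw [← hk]
      have h2 : x * g * x⁻¹ = MulAut.conj x g := by rw [MulAut.conj_apply]
      rw [h2]
      exact MulEquiv.orderOf_eq _ g
    · intro g _; group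
    · intro g _; group
    · intro g _
      rw [← map_mul, ← map_mul]
      congr 1
      group
  have hZ := Cfsg.Agent.Characters.Central.eq_trace_smul_of_comm ρ hρ (∑ g ∈ pel Y p, ρ g) hcen
  have h1 : trace ℂ (Fin N → ℂ) (∑ g ∈ pel Y p, ρ g) = c * ρ.character 1 := by
    rw [map_sum]
    exact hc
  rw [h1, mul_div_cancel_right₀ _ (Cfsg.Agent.Characters.Central.char_one_ne_zero ρ hρ)] at hZ
  have hZf : ∑ g ∈ pel Y p, ρ g f = c • f := by
    have h2 := LinearMap.congr_fun hZ f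
    rw [LinearMap.sum_apply] at h2
    exact h2
  letI act : DistribMulAction Y (Fin N → ℂ) := DistribMulAction.compHom (Fin N → ℂ) (ρ : Y →* Module.End ℂ (Fin N → ℂ))
  have hact : ∀ (g : Y) (w : Fin N → ℂ), g • w = ρ g w := fun _ _ => rfl
  have hk := kaw_cusp R hG (∅ : Finset I) f (fun v hv => by
    rw [VJ_empty R] at hv
    exact hfU v hv) (fun K' hK' => absurd hK' (Finset.not_ssubset_empty K'))
  have hcard : Nat.card (UJ cs h X (((∅ : Finset I) : Set I))) = 1 := by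
    rw [UJ_empty R]
    exact Subgroup.card_bot
  rw [Finset.card_empty, pow_zero, one_smul, hcard, one_smul, VJ_empty R] at hk
  have hk2 : ∑ g : Y, coef cs h T X g • g • f = c • f := by
    rw [← hZf, ← Finset.sum_subset (Finset.subset_univ (pel Y p)) (f := fun g => coef cs h T X g • g • f)
      fun g _ hg => by rw [coef_of_not_mem R hg, zero_smul]]
    refine Finset.sum_congr rfl fun g hg => ?_
    rw [coef_eq_one R hG hg, one_smul]
    rfl
  rw [hk2] at hk
  set U := RGD.Sup X (RGD.Pos cs h) with hU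
  set U' := VNJ cs h X (((∅ : Finset I) : Set I)) with hU'
  set w := sm U' f with hw
  have hsm : ∀ (H : Subgroup Y) (a : Fin N → ℂ), sm H a = ∑ x ∈ Finset.univ.filter (· ∈ H), ρ x a := fun _ _ => rfl
  have hcardH : ∀ H : Subgroup Y, ((Finset.univ.filter (· ∈ H)).card : ℂ) = (Nat.card H : ℂ) := by
    intro H
    rw [← Fintype.card_subtype, Nat.card_eq_fintype_card]
  -- the two computations
  have e1 : hb ρ f (c • f) = (Nat.card U : ℂ) * hb ρ f w := by
    rw [hk, hsm, hb_sum, Finset.sum_congr rfl (g := fun _ => hb ρ f w) fun x hx => ?_, Finset.sum_const,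
      nsmul_eq_mul, hcardH]
    rw [hb_adj, hfU _ (inv_mem (Finset.mem_filter.1 hx).2)]
  have e2 : hb ρ w w = (Nat.card U' : ℂ) * hb ρ f w := by
    conv_lhs => rw [hw, hsm]
    rw [hb_sum_left, Finset.sum_congr rfl (g := fun _ => hb ρ f w) fun x hx => ?_, Finset.sum_const,
      nsmul_eq_mul, hcardH]
    have hx' : x ∈ U' := (Finset.mem_filter.1 hx).2
    have h2 : ρ x⁻¹ w = w := Cfsg.Agent.H769.Kaw.smul_sm_of_mem (inv_mem hx') f
    have h3 := hb_adj ρ x⁻¹ f w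
    rw [h2, inv_inv] at h3
    rw [← hsm, ← hw]
    exact h3.symm
  rw [hb_smul] at e1
  have p1 := hb_pos ρ hv
  have p2 := hb_nonneg ρ w
  rw [Complex.pos_iff] at p1
  rw [Complex.nonneg_iff] at p2
  have hcU : (0 : ℝ) < Nat.card U := by exact_mod_cast Nat.card_pos
  have hcU' : (0 : ℝ) < Nat.card U' := by exact_mod_cast Nat.card_pos
  refine ⟨(hb ρ f f).re, (Nat.card U : ℝ) * ((hb ρ w w).re / Nat.card U'), p1.1, ?_, ?_⟩
  · exact mul_nonneg hcU.le (div_nonneg p2.1 hcU'.le)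
  · have q1 : hb ρ f f = ((hb ρ f f).re : ℂ) := Complex.ext (by simp) (by rw [← p1.2]; simp)
    have q2 : hb ρ w w = ((hb ρ w w).re : ℂ) := Complex.ext (by simp) (by rw [← p2.2]; simp)
    have hcU'' : (Nat.card U' : ℂ) ≠ 0 := card_ne U'
    have q3 : hb ρ f w = ((hb ρ w w).re : ℂ) / (Nat.card U' : ℂ) := by
      rw [← q2, e2]
      field_simp
    rw [q1, q3] at e1
    rw [e1]
    push_cast
    rfl

end Cfsg.Agent.H866.OZ
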