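import Mathlib
import Cfsg.Agent.H866.OZ.Kawa
import Cfsg.Agent.H35.Poin

/-!
# S4842: the sum over the `p`-elements in rank two (helper866)
-/

set_option autoImplicit false
set_option linter.unusedSectionVars false
set_option maxHeartbeats 400000

namespace Cfsg.Agent.H866.OZ

open CoxeterSystem Cfsg.Agent.ChevalleyStructure.CoxeterGeom Cfsg.Agent.Tits.Roots Cfsg.Agent.Tits.Core
  Cfsg.Agent.Tits.Exchange Cfsg.Agent.Nodes.Reps Cfsg.Agent.Nodes.BNOf Cfsg.Agent.Nodes.StabComb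
  Cfsg.Agent.Nodes.Bruhat Cfsg.Agent.Nodes.OppDec Cfsg.Agent.Nodes.LeviDec Cfsg.Agent.Nodes.NormalForm
open Cfsg.Agent.H631.Kaw (pel mem_pel)
open LinearMap (trace)

section Gen

variable {I W Y : Type*} [Fintype I] [DecidableEq I] [Group W] [Group Y] [Finite Y] {M : CoxeterMatrix I}
  {cs : CoxeterSystem M W} {A : I → I → ℤ} {h : IsCartan M A} {p : ℕ} {T : Subgroup Y} {n : I → Y}
  {X : (I → ℤ) → Subgroup Y} {V : Type*} [AddCommGroup V] [Module ℂ V] [FiniteDimensional ℂ V]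
  {ρ : Representation ℂ Y V} (R : RGD cs h p T n X)

theorem av_bot : av ρ (⊥ : Subgroup Y) = 1 := by
  apply LinearMap.ext
  intro v
  rw [av_vec]
  · rfl
  · intro g hg
    rw [Subgroup.mem_bot] at hg
    rw [hg, map_one]
    rfl

theorem VJ_top {J : Set I} (hJ : ∀ k, k ∈ J) : VJ cs h X J = ⊥ := by
  rw [eq_bot_iff]
  refine RGD.Sup_le fun x hx => ?_
  obtain ⟨-, -, k, hk, -⟩ := hx
  exact absurd (hJ k) hk

theorem UJ_top {J : Set I} (hJ : ∀ k, k ∈ J) : UJ cs h X J = RGD.Sup X (RGD.Pos cs h) := by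
  apply le_antisymm
  · exact RGD.Sup_le fun x hx => RGD.le_Sup (S := RGD.Pos cs h) ⟨hx.1, hx.2.1⟩
  · exact RGD.Sup_le fun x hx => RGD.le_Sup (S := PosJ cs h J) ⟨hx.1, hx.2, fun k hk => absurd (hJ k) hk⟩

theorem PJ_top (hG : GG cs h T X = ⊤) {J : Set I} (hJ : ∀ k, k ∈ J) : PJ cs h T X J = ⊤ := by
  rw [eq_top_iff, ← hG]
  refine sup_le (le_trans T_le_LJ LJ_le_PJ) (RGD.Sup_le fun x hx => ?_)
  have h1 : X x ≤ RGD.Sup X (RootsJ cs h J) := RGD.le_Sup (S := RootsJ cs h J) ⟨hx, fun k hk => absurd (hJ k) hk⟩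
  exact le_trans h1 (le_trans le_sup_right LJ_le_PJ)

include R

/-- `|U| = |X_i| |V_i|` -/
theorem card_U_single [Finite W] (i : I) : Nat.card (RGD.Sup X (RGD.Pos cs h)) =
    Nat.card (UJ cs h X ({i} : Set I)) * Nat.card (VJ cs h X ({i} : Set I)) :=
  Cfsg.Agent.Nodes.CardSup.card_mul_of_disjoint (UJ_le_U _) (VJ_le_U _) (fun _ hg => (mem_U_iff R).1 hg) (UJ_inf_VJ R _)

/-- `|P_i| = |L_i| |V_i|` -/
theorem card_PJ_LV [Finite W] (J : Set I) : Nat.card (PJ cs h T X J) =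
    Nat.card (LJ cs h T X J) * Nat.card (VJ cs h X J) :=
  Cfsg.Agent.Nodes.CardSup.card_mul_of_disjoint LJ_le_PJ VJ_le_PJ (fun _ hg => (mem_PJ R).1 hg) (LJ_inf_VJ R _)

/-- the order of a minimal parabolic subgroup -/
theorem card_PJ_one [Finite W] (i : I) :
    Nat.card ↥(PJ cs h T X {i}) = (1 + Nat.card (X (sr i))) * Nat.card ↥(RGD.B cs h T X) := by
  have hP : H35.Poin.APath A {i} (fun _ => i) 1 :=
    ⟨fun _ _ => rfl, fun t ht => absurd ht (by omega), fun s t _ _ => absurd (show False by omega) id,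
      fun j hj h1 => absurd (Set.mem_singleton_iff.1 hj).symm (h1 0 (by norm_num)), fun s hs t ht _ => by omega⟩
  have h1 := H35.Poin.card_PJ_path R hP (y := Nat.card (X (sr i))) (fun _ _ => rfl)
  have h2 : ({i} : Set I) \ {j | ∃ t < 1, (fun _ => i) t = j} = ∅ := by
    ext j
    simp only [Set.mem_sdiff, Set.mem_singleton_iff, Set.mem_ofPred_eq, Set.mem_empty_iff_false, iff_false, not_and,
      not_not]
    rintro rfl
    exact ⟨0, by norm_num, rfl⟩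
  rw [h2, H35.Poin.PJ_empty] at h1
  rw [h1]
  congr 1
  simp [Finset.sum_range_succ]

end Gen

section Two

variable {W Y : Type*} [Group W] [Group Y] [Finite Y] {M : CoxeterMatrix (Fin 2)}
  {cs : CoxeterSystem M W} {A : Fin 2 → Fin 2 → ℤ} {h : IsCartan M A} {p : ℕ} {T : Subgroup Y} {n : Fin 2 → Y}
  {X : (Fin 2 → ℤ) → Subgroup Y} {V : Type*} [AddCommGroup V] [Module ℂ V] [FiniteDimensional ℂ V]
  {ρ : Representation ℂ Y V} (R : RGD cs h p T n X)

include R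

/-- **rank two** -/
theorem kaw_two [Finite W] [Fact p.Prime] (hG : GG cs h T X = ⊤) :
    ∑ g ∈ pel Y p, trace ℂ V (ρ g) = (Nat.card (RGD.Sup X (RGD.Pos cs h)) : ℂ) *
      ((Module.finrank ℂ V : ℂ) -
        (Nat.card Y : ℂ) / (Nat.card (PJ cs h T X ({0} : Set (Fin 2))) : ℂ) * trace ℂ V (eV ρ cs h X 0) -
        (Nat.card Y : ℂ) / (Nat.card (PJ cs h T X ({1} : Set (Fin 2))) : ℂ) * trace ℂ V (eV ρ cs h X 1) +
        (Nat.card Y : ℂ) / (Nat.card (RGD.B cs h T X) : ℂ) * trace ℂ V (eU ρ cs h X)) := by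
  have huniv : (Finset.univ : Finset (Finset (Fin 2))) = {∅, {0}, {1}, {0, 1}} := by decide
  have hY : (Nat.card Y : ℂ) ≠ 0 := by exact_mod_cast Nat.card_pos.ne'
  have hs : ∀ i : Fin 2, ((({i} : Finset (Fin 2)) : Set (Fin 2))) = {i} := fun i => Finset.coe_singleton i
  have hJ : ∀ k, k ∈ ((({0, 1} : Finset (Fin 2)) : Set (Fin 2))) := by
    intro k
    fin_cases k <;> simp
  have hc : ∀ i : Fin 2, (Nat.card (RGD.Sup X (RGD.Pos cs h)) : ℂ) =
      (Nat.card (UJ cs h X ({i} : Set (Fin 2))) : ℂ) * (Nat.card (VJ cs h X ({i} : Set (Fin 2))) : ℂ) := by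
    intro i
    exact_mod_cast card_U_single R i
  rw [kaw_sum R hG, huniv, Finset.sum_insert (by decide), Finset.sum_insert (by decide), Finset.sum_insert (by decide),
    Finset.sum_singleton, hs, hs, VJ_empty R, UJ_empty R, VJ_top hJ, UJ_top hJ, PJ_top hG hJ, av_bot,
    Finset.coe_empty, H35.Poin.PJ_empty]
  have h1 : trace ℂ V (1 : Module.End ℂ V) = (Module.finrank ℂ V : ℂ) := LinearMap.trace_one ℂ V
  have e0 : av ρ (VJ cs h X ({0} : Set (Fin 2))) = eV ρ cs h X 0 := rfl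
  have e1 : av ρ (VJ cs h X ({1} : Set (Fin 2))) = eV ρ cs h X 1 := rfl
  have eu : av ρ (RGD.Sup X (RGD.Pos cs h)) = eU ρ cs h X := rfl
  rw [h1, e0, e1, eu, Nat.card_congr (Equiv.refl (↥(⊤ : Subgroup Y))), Subgroup.card_top, Subgroup.card_bot]
  simp only [Finset.card_empty, Finset.card_singleton, pow_zero, pow_one, one_mul]
  have h2 : ({0, 1} : Finset (Fin 2)).card = 2 := by decide
  rw [h2, div_self hY]
  have hc0 := hc 0
  have hc1 := hc 1
  push_cast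
  rw [mul_add, mul_sub, mul_sub]
  conv_rhs => rw [show (Nat.card (RGD.Sup X (RGD.Pos cs h)) : ℂ) *
    ((Nat.card Y : ℂ) / (Nat.card (PJ cs h T X ({0} : Set (Fin 2))) : ℂ) * trace ℂ V (eV ρ cs h X 0)) =
    (Nat.card (UJ cs h X ({0} : Set (Fin 2))) : ℂ) * (Nat.card (VJ cs h X ({0} : Set (Fin 2))) : ℂ) *
    ((Nat.card Y : ℂ) / (Nat.card (PJ cs h T X ({0} : Set (Fin 2))) : ℂ) * trace ℂ V (eV ρ cs h X 0)) by rw [← hc0],
    show (Nat.card (RGD.Sup X (RGD.Pos cs h)) : ℂ) *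
    ((Nat.card Y : ℂ) / (Nat.card (PJ cs h T X ({1} : Set (Fin 2))) : ℂ) * trace ℂ V (eV ρ cs h X 1)) =
    (Nat.card (UJ cs h X ({1} : Set (Fin 2))) : ℂ) * (Nat.card (VJ cs h X ({1} : Set (Fin 2))) : ℂ) *
    ((Nat.card Y : ℂ) / (Nat.card (PJ cs h T X ({1} : Set (Fin 2))) : ℂ) * trace ℂ V (eV ρ cs h X 1)) by rw [← hc1]]
  ring

end Two

end Cfsg.Agent.H866.OZ
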