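import Mathlib
import Cfsg.Agent.H866.D4Wf.Row
import Cfsg.Agent.H866.OZ.Elliptic
import Cfsg.Agent.S0242

/-!
# S4842: elements of `³D₄(q)` (helper866)
-/

set_option autoImplicit false
set_option linter.unusedSectionVars false
set_option maxHeartbeats 400000

namespace Cfsg.Agent.H866.OZ.D4

open CoxeterSystem Cfsg.Agent.ChevalleyStructure.CoxeterGeom Cfsg.Agent.Tits.Roots Cfsg.Agent.Tits.Core
  Cfsg.Agent.Tits.Exchange Cfsg.Agent.Nodes.Reps Cfsg.Agent.Nodes.BNOf Cfsg.Agent.Nodes.StabComb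
  Cfsg.Agent.Nodes.Bruhat Cfsg.Agent.Nodes.OppDec Cfsg.Agent.Nodes.LeviDec Cfsg.Agent.Nodes.RGDTwGen
  Cfsg.Agent.Nodes.RGDChev Cfsg.Agent.Nodes.RGDFold Cfsg.Agent.Nodes.RGDFoldSL
open Cfsg.Agent.KFacts.RgdOpp Cfsg.Agent.KFacts.RgdAut Cfsg.Agent.KFacts.RgdDiag Cfsg.Agent.KFacts.RgdRigid
  Cfsg.Agent.KFacts.RgdField Cfsg.Agent.KFacts.RgdTau Cfsg.Agent.KFacts.RgdNodes
open Cfsg.Lie Cfsg.Agent.ChevalleyStructure Cfsg.Agent.ChevalleyStructure.Elts
open Cfsg.Agent.ChevalleyStructure.SL2Hom (up lo mem_closure_SL2)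
open Cfsg.Agent.KFacts.TwDFour.Out
open Cfsg.Agent.Nodes.RGDTwD4 Cfsg.Agent.Nodes.RGDTwNode.D4
open Cfsg.Agent.CpAut.RgdFix Cfsg.Agent.CpAut.RgdConj Cfsg.Agent.CpAut.RgdTwStd Cfsg.Agent.CpAut.RgdTwD4
open Cfsg.Agent.H866.D4Wf.Frame
open Cfsg.Agent.KFacts.TwESix.NodeCoord (hS_mul)

variable {K : Type} [Field K] [Fintype K] {q : ℕ} (hK : Fintype.card K = q ^ 3)
  {φ : K →+* K} (hφ : ∀ x, φ x = x ^ q)

/-! ### the torus -/

include hK in
theorem ch_inv {t : ↥(twistedD4 K q)} (ht : t ∈ T K q) (i : Fin 2) : chD hφ hK i t⁻¹ = (chD hφ hK i t)⁻¹ := by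
  have h1 := ch_mul hK hφ (inv_mem ht) ht i
  rw [inv_mul_cancel, ch_one hK hφ] at h1
  exact eq_inv_of_mul_eq_one_left h1.symm

include hK in
theorem eq_one_of_ch {t : ↥(twistedD4 K q)} (ht : t ∈ T K q) (h0 : chD hφ hK 0 t = 1) (h1 : chD hφ hK 1 t = 1) :
    t = 1 := by
  apply eq_one_of_center hK hφ
  intro g
  have h2 := conj_eq_one_of_ch hK hφ ht fun i => by
    fin_cases i
    · exact h0
    · exact h1
  have h3 : MulAut.conj t g = g := by rw [h2]; rfl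
  rw [MulAut.conj_apply] at h3
  exact mul_inv_eq_iff_eq_mul.1 h3

include hK in
theorem eq_of_ch {s t : ↥(twistedD4 K q)} (hs : s ∈ T K q) (ht : t ∈ T K q) (h0 : chD hφ hK 0 s = chD hφ hK 0 t)
    (h1 : chD hφ hK 1 s = chD hφ hK 1 t) : s = t := by
  rw [← mul_inv_eq_one]
  refine eq_one_of_ch hK hφ (mul_mem hs (inv_mem ht)) ?_ ?_
  · rw [ch_mul hK hφ hs (inv_mem ht), ch_inv hK hφ ht, h0, mul_inv_cancel₀ (ch_ne_zero hK hφ ht 0)]
  · rw [ch_mul hK hφ hs (inv_mem ht), ch_inv hK hφ ht, h1, mul_inv_cancel₀ (ch_ne_zero hK hφ ht 1)]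

include hK hφ in
theorem T_comm {s t : ↥(twistedD4 K q)} (hs : s ∈ T K q) (ht : t ∈ T K q) : s * t = t * s := by
  refine eq_of_ch hK hφ (mul_mem hs ht) (mul_mem ht hs) ?_ ?_
  · rw [ch_mul hK hφ hs ht, ch_mul hK hφ ht hs, mul_comm]
  · rw [ch_mul hK hφ hs ht, ch_mul hK hφ ht hs, mul_comm]

include hK in
theorem ch_pow {t : ↥(twistedD4 K q)} (ht : t ∈ T K q) (i : Fin 2) (k : ℕ) :
    chD hφ hK i (t ^ k) = chD hφ hK i t ^ k := by
  induction k with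
  | zero => rw [pow_zero, pow_zero, ch_one hK hφ]
  | succ k ih => rw [pow_succ, pow_succ, ch_mul hK hφ (pow_mem ht k) ht, ih]

include hK in
theorem exists_ch (hq : IsPrimePow q) {c0 : KD φ 0} {c1 : KD φ 1} (h0 : c0 ≠ 0) (h1 : c1 ≠ 0) :
    ∃ t ∈ T K q, chD hφ hK 0 t = c0 ∧ chD hφ hK 1 t = c1 := by
  classical
  let f : T K q → (KD φ 0)ˣ × (KD φ 1)ˣ := fun t =>
    (Units.mk0 (chD hφ hK 0 t) (ch_ne_zero hK hφ t.2 0), Units.mk0 (chD hφ hK 1 t) (ch_ne_zero hK hφ t.2 1))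
  have hf : Function.Injective f := by
    intro s t e
    have e0 := congrArg (fun x => ((x.1 : (KD φ 0)ˣ) : KD φ 0)) e
    have e1 := congrArg (fun x => ((x.2 : (KD φ 1)ˣ) : KD φ 1)) e
    exact Subtype.ext (eq_of_ch hK hφ s.2 t.2 e0 e1)
  have hcard : Nat.card (T K q) = Nat.card ((KD φ 0)ˣ × (KD φ 1)ˣ) := by
    have := Fintype.ofFinite (KD φ 0)
    have := Fintype.ofFinite (KD φ 1)
    rw [Nat.card_prod, Nat.card_eq_fintype_card (α := (KD φ 0)ˣ), Nat.card_eq_fintype_card (α := (KD φ 1)ˣ),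
      Fintype.card_units, Fintype.card_units, ← Nat.card_eq_fintype_card, ← Nat.card_eq_fintype_card,
      card_KD0 hK hφ hq, card_KD1 hK hφ, card_T hK hφ hq]
    have h2 := hq.two_le
    obtain ⟨a, rfl⟩ : ∃ a, q = a + 1 := ⟨q - 1, by omega⟩
    have e : (a + 1) ^ 3 - 1 = a * ((a + 1) ^ 2 + (a + 1) + 1) := by
      have : (a + 1) ^ 3 = a * ((a + 1) ^ 2 + (a + 1) + 1) + 1 := by ring
      omega
    rw [e, Nat.add_sub_cancel]
    ring
  obtain ⟨t, ht⟩ := ((Nat.bijective_iff_injective_and_card f).2 ⟨hf, hcard⟩).2 (Units.mk0 c0 h0, Units.mk0 c1 h1)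
  refine ⟨t, t.2, ?_, ?_⟩
  · exact congrArg (fun x => ((x.1 : (KD φ 0)ˣ) : KD φ 0)) ht
  · exact congrArg (fun x => ((x.2 : (KD φ 1)ˣ) : KD φ 1)) ht

include hK in
theorem co (i : Fin 2) : Co (T K q) (n hφ) (X φ q) i (PhiD hφ hK i) where
  mem x := mem_X hφ hK i x
  inj _ _ e := (coordD hφ hK i).inj e
  w := PhiD_wS hφ hK i
  tor c hc := PhiD_hS hφ hK i c hc

/-- `n⁻¹ t n t⁻¹` -/
theorem n_t_n_t (i : Fin 2) {t : ↥(twistedD4 K q)} (ht : t ∈ T K q) :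
    (n hφ i)⁻¹ * t * n hφ i = PhiD hφ hK i (hS (chD hφ hK i t)⁻¹) * t := by
  obtain ⟨r, hr⟩ := CharP.exists K
  have : Fact r.Prime := ⟨CharP.char_is_prime K r⟩
  have : Finite CoxeterMatrix.G₂.Group := finiteW cs
  have R := rgd' hK hφ r
  have hT' : (n hφ i)⁻¹ * t * n hφ i ∈ T K q := by
    have h1 := (Subgroup.mem_normalizer_iff.1 (inv_mem (R.nsys.norm i)) t).1 ht
    rwa [inv_inv] at h1
  obtain ⟨s, hs⟩ : ∃ s, s = (n hφ i)⁻¹ * t * n hφ i * t⁻¹ := ⟨_, rfl⟩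
  have hsT : s ∈ T K q := by rw [hs]; exact mul_mem hT' (inv_mem ht)
  have hnr : n hφ i ∈ (PhiD hφ hK i).range := ⟨wS 1, PhiD_wS hφ hK i⟩
  have hsr : s ∈ (PhiD hφ hK i).range := by
    have h1 : s = (n hφ i)⁻¹ * (t * n hφ i * t⁻¹) := by rw [hs]; group
    rw [h1]
    exact mul_mem (inv_mem hnr) ((Subgroup.mem_normalizer_iff.1 (T_le_normalizer hK hφ i ht) _).1 hnr)
  have hrange : (PhiD hφ hK i).range ≤ X φ q (sr i) ⊔ X φ q (-sr i) := by
    rintro _ ⟨A, rfl⟩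
    have h3 : Subgroup.closure (Set.range (up (F := KD φ i)) ∪ Set.range (lo (F := KD φ i))) ≤
        (X φ q (sr i) ⊔ X φ q (-sr i)).comap (PhiD hφ hK i) := by
      rw [Subgroup.closure_le]
      rintro _ (⟨a, rfl⟩ | ⟨a, rfl⟩)
      · exact Subgroup.mem_sup_left ((mem_X hφ hK i _).2 ⟨a, rfl⟩)
      · exact Subgroup.mem_sup_right ((mem_negX hK hφ i _).2 ⟨a, rfl⟩)
    exact h3 (mem_closure_SL2 A)
  obtain ⟨d, hd, hsd⟩ := Cfsg.Agent.KFacts.TwESix.NodeCoord.coroot_mem R (mem_X hφ hK i) (PhiD_wS hφ hK i)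
    (PhiD_hS hφ hK i) hsT (hrange hsr)
  obtain ⟨c, hc⟩ : ∃ c, c = chD hφ hK i t := ⟨_, rfl⟩
  have hc0 : c ≠ 0 := by rw [hc]; exact ch_ne_zero hK hφ ht i
  obtain ⟨e, he⟩ : ∃ e, t * PhiD hφ hK i (lo (-(1 : KD φ i)⁻¹)) * t⁻¹ = PhiD hφ hK i (lo e) := by
    refine (mem_negX hK hφ i _).1 ?_
    rw [← R.tor _ (isRoot_sr cs isCartan i).neg t ht]
    exact conj_mem_cj.2 ((mem_negX hK hφ i _).2 ⟨_, rfl⟩)
  have h1 : t * n hφ i * t⁻¹ = PhiD hφ hK i (up c * (lo e * up c)) := by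
    have h2 := act_up hK hφ ht i 1
    rw [mul_one, ← hc] at h2
    rw [map_mul, map_mul, ← he, ← h2, ← PhiD_wS hφ hK i]
    show t * PhiD hφ hK i (up 1 * (lo (-(1 : KD φ i)⁻¹) * up 1)) * t⁻¹ = _
    rw [map_mul, map_mul]
    group
  have h2 : t * n hφ i * t⁻¹ = PhiD hφ hK i (wS 1 * hS d) := by
    rw [map_mul, PhiD_wS, ← hsd, hs]
    group
  have h3 : PhiD hφ hK i ((up c * (lo e * up c)) * (wS 1 * hS d)⁻¹) = 1 := by
    rw [map_mul, map_inv, ← h1, ← h2, mul_inv_cancel]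
  obtain ⟨h4, h5, h6⟩ := ker_Phi hK hφ i h3
  obtain ⟨B, hB⟩ : ∃ B, B = (up c * (lo e * up c)) * (wS 1 * hS d)⁻¹ := ⟨_, rfl⟩
  rw [← hB] at h3 h4 h5 h6
  have h7 : up c * (lo e * up c) = B * (wS 1 * hS d) := by rw [hB]; group
  have hu1 : (up c : Matrix.SpecialLinearGroup (Fin 2) (KD φ i)).1 = !![1, c; 0, 1] := rfl
  have hl1 : (lo e : Matrix.SpecialLinearGroup (Fin 2) (KD φ i)).1 = !![1, 0; e, 1] := rfl
  have h8 := congrArg (fun M : Matrix.SpecialLinearGroup (Fin 2) (KD φ i) => M.1 0 0) h7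
  have h9 := congrArg (fun M : Matrix.SpecialLinearGroup (Fin 2) (KD φ i) => M.1 0 1) h7
  simp only [Matrix.SpecialLinearGroup.coe_mul, coe_wS one_ne_zero, coe_hS hd, Matrix.mul_apply, Fin.sum_univ_two,
    h5, hu1, hl1] at h8 h9
  simp at h8 h9
  have h8' : 1 + c * e = 0 := h8
  have h10 : B.1 0 0 * B.1 0 0 = 1 := by rw [← pow_two]; exact h6
  have hb0 : B.1 0 0 ≠ 0 := left_ne_zero_of_mul_eq_one h10
  have h14 : c = B.1 0 0 * d⁻¹ := by
    rw [← h9]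
    linear_combination (-c) * h8'
  have h15 : d = B.1 0 0 * c⁻¹ := by
    rw [h14, mul_inv, inv_inv, ← mul_assoc, mul_inv_cancel₀ hb0, one_mul]
  -- `B = hS (B 0 0)`
  have h16 : B = hS (B.1 0 0) := by
    apply Subtype.ext
    rw [coe_hS hb0]
    have hdet := B.2
    rw [Matrix.det_fin_two, h4, h5, mul_zero, sub_zero] at hdet
    have h11 : B.1 1 1 = (B.1 0 0)⁻¹ := eq_inv_of_mul_eq_one_right hdet
    ext a b
    fin_cases a <;> fin_cases b
    · simp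
    · simpa using h5
    · simpa using h4
    · simp [h11]
  have h17 : s = PhiD hφ hK i (hS c⁻¹) := by
    rw [hsd, h15, hS_mul hb0 (inv_ne_zero hc0), map_mul, ← h16, h3, one_mul]
  rw [← hc, ← h17, hs, inv_mul_cancel_right]

/-- every coroot element is a quotient -/
theorem sur (hq : IsPrimePow q) (i : Fin 2) (d : KD φ i) (hd : d ≠ 0) :
    ∃ t ∈ T K q, t * n hφ i = n hφ i * PhiD hφ hK i (hS d) * t := by
  obtain ⟨t, ht, h1⟩ : ∃ t ∈ T K q, chD hφ hK i t = d⁻¹ := by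
    have hi : i = 0 ∨ i = 1 := by fin_cases i <;> simp
    rcases hi with rfl | rfl
    · obtain ⟨t, ht, h1, -⟩ := exists_ch hK hφ hq (inv_ne_zero hd) (one_ne_zero (α := KD φ 1))
      exact ⟨t, ht, h1⟩
    · obtain ⟨t, ht, -, h1⟩ := exists_ch hK hφ hq (one_ne_zero (α := KD φ 0)) (inv_ne_zero hd)
      exact ⟨t, ht, h1⟩
  refine ⟨t, ht, ?_⟩
  have h2 := n_t_n_t hK hφ i ht
  rw [h1, inv_inv] at h2
  rw [mul_assoc, ← h2]
  group


/-! ### elements of order prime to `q - 1` -/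

/-- `h ∈ T` of prime order `ℓ`, `ℓ ∤ q - 1`, `ℓ` odd -/
structure El (hK : Fintype.card K = q ^ 3) {φ : K →+* K} (hφ : ∀ x, φ x = x ^ q) (l : ℕ) (g : ↥(twistedD4 K q)) :
    Prop where
  mem : g ∈ T K q
  pow : g ^ l = 1
  ne : g ≠ 1
  prime : l.Prime
  odd : l ≠ 2
  cop : Nat.Coprime l (q - 1)

/-- existence -/
theorem exists_el (hq : IsPrimePow q) : ∃ (l : ℕ) (g : ↥(twistedD4 K q)), El hK hφ l g ∧ 5 ≤ l ∧ l ∣ q ^ 2 + q + 1 := by
  have h2 := hq.two_le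
  obtain ⟨l, hl, hl3, hld⟩ : ∃ l : ℕ, l.Prime ∧ l ≠ 3 ∧ l ∣ q ^ 2 + q + 1 := by
    by_contra hcon
    push Not at hcon
    have h3 : ∀ {d : ℕ}, d.Prime → d ∣ q ^ 2 + q + 1 → d = 3 := by
      intro d hd hdd
      by_contra h
      exact hcon d hd h hdd
    have h4 := Nat.eq_prime_pow_of_unique_prime_dvd (n := q ^ 2 + q + 1) (by positivity) h3
    obtain ⟨k, hk⟩ : ∃ k, k = (q ^ 2 + q + 1).primeFactorsList.length := ⟨_, rfl⟩
    rw [← hk] at h4
    have h5 : ¬ 9 ∣ q ^ 2 + q + 1 := by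
      intro h
      have h6 : (q ^ 2 + q + 1) % 9 = 0 := Nat.mod_eq_zero_of_dvd h
      have h7 : q % 9 < 9 := Nat.mod_lt _ (by norm_num)
      rw [Nat.add_mod, Nat.add_mod (q ^ 2), Nat.pow_mod] at h6
      interval_cases h8 : q % 9 <;> simp at h6
    have h6 : k < 2 := by
      by_contra h
      apply h5
      rw [h4]
      calc 9 = 3 ^ 2 := by norm_num
        _ ∣ 3 ^ k := pow_dvd_pow 3 (by omega)
    have h7 : 7 ≤ q ^ 2 + q + 1 := by nlinarith
    interval_cases k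
    · simp at h4; omega
    · simp at h4; omega
  have : Fact l.Prime := ⟨hl⟩
  have hl2 : l ≠ 2 := by
    rintro rfl
    have h3 : (q ^ 2 + q + 1) % 2 = 0 := Nat.mod_eq_zero_of_dvd hld
    rcases Nat.even_or_odd q with h4 | h4
    · obtain ⟨a, rfl⟩ := h4
      have : (a + a) ^ 2 + (a + a) + 1 = 2 * (2 * a ^ 2 + a) + 1 := by ring
      omega
    · obtain ⟨a, rfl⟩ := h4
      have : (2 * a + 1) ^ 2 + (2 * a + 1) + 1 = 2 * (2 * a ^ 2 + 3 * a + 1) + 1 := by ring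
      omega
  have h5 : 5 ≤ l := by
    have h6 := hl.two_le
    by_contra h
    have h7 : l = 4 := by omega
    rw [h7] at hl
    norm_num at hl
  have hcop : Nat.Coprime l (q - 1) := by
    rw [Nat.Prime.coprime_iff_not_dvd hl]
    intro h
    apply hl3
    have h6 : l ∣ 3 := by
      obtain ⟨a, rfl⟩ : ∃ a, q = a + 1 := ⟨q - 1, by omega⟩
      rw [Nat.add_sub_cancel] at h
      have h7 : (a + 1) ^ 2 + (a + 1) + 1 = a * (a + 3) + 3 := by ring
      rw [h7] at hld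
      exact (Nat.dvd_add_right (h.mul_right _)).1 hld
    exact (Nat.prime_dvd_prime_iff_eq hl Nat.prime_three).1 h6
  have hdvd : l ∣ Nat.card (T K q) := by
    rw [card_T hK hφ hq]
    exact hld.mul_left _
  obtain ⟨g, hg⟩ := exists_prime_orderOf_dvd_card' l hdvd
  refine ⟨l, g, ⟨g.2, ?_, ?_, hl, hl2, hcop⟩, h5, hld⟩
  · have h6 := pow_orderOf_eq_one g
    rw [hg] at h6
    exact congrArg Subtype.val h6
  · intro h6
    have h7 : g = 1 := Subtype.ext h6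
    rw [h7, orderOf_one] at hg
    exact hl.one_lt.ne hg

variable {hK hφ}

theorem El.ch0 {l : ℕ} {g : ↥(twistedD4 K q)} (E : El hK hφ l g) (hq : IsPrimePow q) : chD hφ hK 0 g = 1 := by
  have := Fintype.ofFinite (KD φ 0)
  have h1 : chD hφ hK 0 g ^ l = 1 := by rw [← ch_pow hK hφ E.mem, E.pow, ch_one hK hφ]
  have h2 : chD hφ hK 0 g ^ (q - 1) = 1 := by
    have h3 := FiniteField.pow_card_sub_one_eq_one _ (ch_ne_zero hK hφ E.mem 0)
    rwa [← Nat.card_eq_fintype_card, card_KD0 hK hφ hq] at h3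
  have h3 := orderOf_dvd_of_pow_eq_one h1
  have h4 := orderOf_dvd_of_pow_eq_one h2
  have h5 := Nat.dvd_gcd h3 h4
  rw [show Nat.gcd l (q - 1) = 1 from E.cop] at h5
  exact orderOf_eq_one_iff.1 (Nat.dvd_one.1 h5)

theorem El.ch1 {l : ℕ} {g : ↥(twistedD4 K q)} (E : El hK hφ l g) (hq : IsPrimePow q) : chD hφ hK 1 g ≠ 1 :=
  fun h => E.ne (eq_one_of_ch hK hφ E.mem (E.ch0 hq) h)

/-- powers -/
theorem El.powEl {l : ℕ} {g : ↥(twistedD4 K q)} (E : El hK hφ l g) {k : ℕ} (hk : ¬ l ∣ k) : El hK hφ l (g ^ k) := by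
  refine ⟨pow_mem E.mem k, by rw [← pow_mul, mul_comm, pow_mul, E.pow, one_pow], fun h => ?_, E.prime, E.odd, E.cop⟩
  have h1 : orderOf g = l := by
    rcases (Nat.dvd_prime E.prime).1 (orderOf_dvd_of_pow_eq_one E.pow) with h2 | h2
    · exact absurd (orderOf_eq_one_iff.1 h2) E.ne
    · exact h2
  exact hk (h1 ▸ orderOf_dvd_of_pow_eq_one h)

/-- conjugates under the normaliser -/
theorem El.conjEl {l : ℕ} {g k : ↥(twistedD4 K q)} (E : El hK hφ l g)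
    (hk : k ∈ Subgroup.normalizer (T K q : Set ↥(twistedD4 K q))) : El hK hφ l (k⁻¹ * g * k) := by
  have h0 : k⁻¹ * g * k ∈ T K q := by
    have h1 := (Subgroup.mem_normalizer_iff.1 (inv_mem hk) g).1 E.mem
    rwa [inv_inv] at h1
  have h1 : ∀ m : ℕ, (k⁻¹ * g * k) ^ m = k⁻¹ * g ^ m * k := by
    intro m
    have := conj_pow (i := m) (a := k⁻¹) (b := g)
    rwa [inv_inv] at this
  refine ⟨h0, by rw [h1, E.pow, mul_one, inv_mul_cancel], fun h => ?_, E.prime, E.odd, E.cop⟩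
  apply E.ne
  have h2 : g = k * (k⁻¹ * g * k) * k⁻¹ := by group
  rw [h2, h, mul_one, mul_inv_cancel]

/-- `g` commutes with `n_0` -/
theorem El.n0 {l : ℕ} {g : ↥(twistedD4 K q)} (E : El hK hφ l g) (hq : IsPrimePow q) :
    (n hφ 0)⁻¹ * g * n hφ 0 = g := by
  have h1 := n_t_n_t hK hφ 0 E.mem
  rw [E.ch0 hq, inv_one, hS_one, map_one, one_mul] at h1
  exact h1

theorem El.comm0 {l : ℕ} {g : ↥(twistedD4 K q)} (E : El hK hφ l g) (hq : IsPrimePow q)
    (B : Matrix.SpecialLinearGroup (Fin 2) (KD φ 0)) : g * PhiD hφ hK 0 B = PhiD hφ hK 0 B * g := by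
  have hn : g * n hφ 0 = n hφ 0 * g := by
    have h1 := E.n0 hq
    rw [mul_assoc, inv_mul_eq_iff_eq_mul] at h1
    exact h1
  have hup : ∀ a, g * PhiD hφ hK 0 (up a) = PhiD hφ hK 0 (up a) * g := by
    intro a
    have h1 := act_up hK hφ E.mem 0 a
    rw [E.ch0 hq, one_mul] at h1
    exact mul_inv_eq_iff_eq_mul.1 h1
  have h3 : Subgroup.closure (Set.range (up (F := KD φ 0)) ∪ Set.range (lo (F := KD φ 0))) ≤
      (Subgroup.centralizer {g}).comap (PhiD hφ hK 0) := by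
    rw [Subgroup.closure_le]
    rintro _ (⟨a, rfl⟩ | ⟨a, rfl⟩)
    · show PhiD hφ hK 0 (up a) ∈ Subgroup.centralizer {g}
      rw [Subgroup.mem_centralizer_singleton_iff]
      exact (hup a).symm
    · show PhiD hφ hK 0 (lo a) ∈ Subgroup.centralizer {g}
      rw [lo_eq, map_mul, map_mul, map_inv, PhiD_wS]
      have h5 : n hφ 0 ∈ Subgroup.centralizer {g} := Subgroup.mem_centralizer_singleton_iff.2 hn.symm
      have h6 : PhiD hφ hK 0 (up (-a)) ∈ Subgroup.centralizer {g} :=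
        Subgroup.mem_centralizer_singleton_iff.2 (hup _).symm
      exact mul_mem (mul_mem (inv_mem h5) h6) h5
  exact (Subgroup.mem_centralizer_singleton_iff.1 (h3 (mem_closure_SL2 B))).symm


/-- `g` is inverted by `n_1` -/
theorem El.n1 {l : ℕ} {g : ↥(twistedD4 K q)} (E : El hK hφ l g) (hq : IsPrimePow q) :
    (n hφ 1)⁻¹ * g * n hφ 1 = g⁻¹ := by
  obtain ⟨r, hr⟩ := CharP.exists K
  have : Fact r.Prime := ⟨CharP.char_is_prime K r⟩
  have R := rgd' hK hφ r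
  have hn : n hφ 1 ∈ Subgroup.normalizer (T K q : Set ↥(twistedD4 K q)) := R.nsys.norm 1
  have E' := E.conjEl hn
  -- the character
  have h1 := n_t_n_t hK hφ 1 E.mem
  obtain ⟨c, hc⟩ : ∃ c, c = chD hφ hK 1 g := ⟨_, rfl⟩
  have hc0 : c ≠ 0 := by rw [hc]; exact ch_ne_zero hK hφ E.mem 1
  have h2 : chD hφ hK 1 ((n hφ 1)⁻¹ * g * n hφ 1) = c⁻¹ := by
    rw [h1, ch_mul hK hφ (PhiD_hS hφ hK 1 _ (inv_ne_zero (ch_ne_zero hK hφ E.mem 1))) E.mem,
      chD_hS hφ hK 1 _ (inv_ne_zero (ch_ne_zero hK hφ E.mem 1)), ← hc, pow_two, mul_assoc,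
      inv_mul_cancel₀ hc0, mul_one]
  refine eq_of_ch hK hφ E'.mem (inv_mem E.mem) ?_ ?_
  · rw [E'.ch0 hq, ch_inv hK hφ E.mem, E.ch0 hq, inv_one]
  · rw [h2, ch_inv hK hφ E.mem, hc]

/-- the normaliser acts on `g` by `± 1` -/
theorem El.norm {l : ℕ} {g : ↥(twistedD4 K q)} (E : El hK hφ l g) (hq : IsPrimePow q) {r : ℕ} [Fact r.Prime]
    [CharP K r] {w : CoxeterMatrix.G₂.Group} {k : ↥(twistedD4 K q)} (hk : Rp cs (rgd' hK hφ r).nsys w k) :
    k⁻¹ * g * k = g ∨ k⁻¹ * g * k = g⁻¹ := by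
  obtain ⟨k', hk', hw⟩ := exists_rp_closure (cs := cs) (hN := (rgd' hK hφ r).nsys) w
  have h1 : k'⁻¹ * k ∈ T K q := hw.unique hk
  have key : k'⁻¹ * g * k' = g ∨ k'⁻¹ * g * k' = g⁻¹ := by
    clear hw h1
    induction hk' using Subgroup.closure_induction with
    | mem x hx =>
      obtain ⟨i, rfl⟩ := hx
      fin_cases i
      · exact Or.inl (E.n0 hq)
      · exact Or.inr (E.n1 hq)
    | one => left; group
    | mul x y _ _ hx hy =>
      have h2 : (x * y)⁻¹ * g * (x * y) = y⁻¹ * (x⁻¹ * g * x) * y := by group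
      have h3 : y⁻¹ * g⁻¹ * y = (y⁻¹ * g * y)⁻¹ := by group
      rw [h2]
      rcases hx with hx | hx
      · rw [hx]
        exact hy
      · rw [hx, h3]
        rcases hy with hy | hy
        · rw [hy]; exact Or.inr rfl
        · rw [hy, inv_inv]; exact Or.inl rfl
    | inv x _ hx =>
      rcases hx with hx | hx
      · left
        conv_lhs => rw [← hx]
        group
      · right
        have h2 : x⁻¹⁻¹ * (x⁻¹ * g * x)⁻¹ * x⁻¹ = g⁻¹ := by group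
        rw [hx, inv_inv] at h2
        exact h2
  have h2 : k⁻¹ * g * k = (k'⁻¹ * k)⁻¹ * (k'⁻¹ * g * k') * (k'⁻¹ * k) := by group
  have h3 : ∀ x ∈ T K q, (k'⁻¹ * k)⁻¹ * x * (k'⁻¹ * k) = x := by
    intro x hx
    rw [mul_assoc, T_comm hK hφ hx h1, inv_mul_cancel_left]
  rw [h2]
  rcases key with h4 | h4
  · rw [h4, h3 g E.mem]
    exact Or.inl rfl
  · rw [h4, h3 _ (inv_mem E.mem)]
    exact Or.inr rfl

/-- conjugate elements of `T` are conjugate under `N` -/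
theorem conj_T {r : ℕ} [Fact r.Prime] [CharP K r] {s t x : ↥(twistedD4 K q)} (hs : s ∈ T K q) (ht : t ∈ T K q)
    (hx : x * s * x⁻¹ = t) : ∃ w k, Rp cs (rgd' hK hφ r).nsys w k ∧ k * s * k⁻¹ = t := by
  have : Finite CoxeterMatrix.G₂.Group := finiteW cs
  have R := rgd' hK hφ r
  obtain ⟨w, hw⟩ := (mem_GG R).1 (show x ∈ GG cs isCartan (T K q) (X φ q) by rw [GG_top hK hφ]; exact Subgroup.mem_top x)
  obtain ⟨u, hu, k, hk, v, hv, e⟩ := Cfsg.Agent.Nodes.NormalForm.exists_normal_form R hw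
  refine ⟨w, k, hk, ?_⟩
  have h1 : x * s = t * x := by rw [← hx]; group
  have hNWroot : ∀ y ∈ Cfsg.Agent.Nodes.NormalForm.NW cs isCartan w, IsRoot cs isCartan y := fun y hy => hy.1
  have hv' : s⁻¹ * v * s ∈ RGD.Sup (X φ q) (Cfsg.Agent.Nodes.NormalForm.NW cs isCartan w) := by
    have h2 := (Subgroup.mem_normalizer_iff.1 (R.T_le_normalizer hNWroot (inv_mem hs)) v).1 hv
    rwa [inv_inv] at h2
  have hu' : t * u * t⁻¹ ∈ RGD.Sup (X φ q) (RGD.Pos cs isCartan) :=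
    (Subgroup.mem_normalizer_iff.1 (R.T_le_normalizer_U ht) u).1 hu
  have hk1 : Rp cs R.nsys w (k * s) := hk.mul_mem_right hs
  have hk2 : Rp cs R.nsys w (t * k) := by
    have h2 := (rp_of_mem (cs := cs) (hN := R.nsys) ht).mul hk
    rwa [one_mul] at h2
  have h3 : u * (k * s) * (s⁻¹ * v * s) = (t * u * t⁻¹) * (t * k) * v := by
    have h4 : u * (k * s) * (s⁻¹ * v * s) = x * s := by rw [e]; group
    have h5 : (t * u * t⁻¹) * (t * k) * v = t * x := by rw [e]; group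
    rw [h4, h5, h1]
  obtain ⟨-, h4, -⟩ := Cfsg.Agent.Nodes.NormalForm.normal_form_unique R hu hu' hk1 hk2 hv' hv h3
  rw [h4]
  group


/-! ### fixed points in `V_0` -/

theorem card_SL2 {F : Type} [Field F] [Finite F] : Nat.card (Matrix.SpecialLinearGroup (Fin 2) F) =
    Nat.card F * (Nat.card F ^ 2 - 1) := by
  have : Fintype F := Fintype.ofFinite F
  have h1 := Cfsg.Agent.S0242.result (F := F) rfl 2 (by norm_num)
  have hq : 2 ≤ Fintype.card F := Fintype.one_lt_card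
  rw [Fin.prod_univ_two] at h1
  have h3 : Fintype.card F ^ 2 - Fintype.card F ^ 1 = (Fintype.card F - 1) * Fintype.card F := by
    rw [Nat.sub_mul, one_mul, pow_one, pow_two]
  simp only [Fin.val_zero, Fin.val_one, pow_zero] at h1
  rw [h3] at h1
  have h4 : (Fintype.card F - 1) * Nat.card (Matrix.SpecialLinearGroup (Fin 2) F) =
      (Fintype.card F - 1) * (Fintype.card F * (Fintype.card F ^ 2 - 1)) := by rw [h1]; ring
  rw [Nat.card_eq_fintype_card (α := F)]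
  exact Nat.eq_of_mul_eq_mul_left (by omega) h4

theorem not_dvd_SL (hq : IsPrimePow q) {l : ℕ} (hl : l.Prime) (hl5 : 5 ≤ l) (hd : l ∣ q ^ 2 + q + 1) :
    ¬ l ∣ q * (q ^ 2 - 1) := by
  intro h
  have h2 := hq.two_le
  obtain ⟨a, rfl⟩ : ∃ a, q = a + 1 := ⟨q - 1, by omega⟩
  have e : (a + 1) ^ 2 - 1 = a * (a + 2) := by
    have : (a + 1) ^ 2 = a * (a + 2) + 1 := by ring
    omega
  rw [e] at h
  rcases (Nat.Prime.dvd_mul hl).1 h with h3 | h3
  · have h4 : (a + 1) ^ 2 + (a + 1) + 1 = (a + 1) * (a + 2) + 1 := by ring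
    rw [h4] at hd
    have := (Nat.dvd_add_right (h3.mul_right _)).1 hd
    have := Nat.le_of_dvd one_pos this
    omega
  rcases (Nat.Prime.dvd_mul hl).1 h3 with h3 | h3
  · have h4 : (a + 1) ^ 2 + (a + 1) + 1 = a * (a + 3) + 3 := by ring
    rw [h4] at hd
    have := (Nat.dvd_add_right (h3.mul_right _)).1 hd
    have := Nat.le_of_dvd (by norm_num) this
    omega
  · have h4 : (a + 1) ^ 2 + (a + 1) + 1 = (a + 2) * (a + 1) + 1 := by ring
    rw [h4] at hd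
    have := (Nat.dvd_add_right (h3.mul_right _)).1 hd
    have := Nat.le_of_dvd one_pos this
    omega

theorem n_conj' (hK : Fintype.card K = q ^ 3) (hφ : ∀ x, φ x = x ^ q) (i : Fin 2) {x : Fin 2 → ℤ} (hx : x ∈ rts)
    {a : ↥(twistedD4 K q)} (ha : a ∈ X φ q x) :
    (n hφ i)⁻¹ * a * n hφ i ∈ X φ q (rep cs isCartan (cs.simple i) x) := by
  obtain ⟨r, hr⟩ := CharP.exists K
  have : Fact r.Prime := ⟨CharP.char_is_prime K r⟩
  have R := rgd' hK hφ r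
  have h1 := R.conj_mem' (rp_simple cs R.nsys i) (isRoot_of_mem hx) ha
  rwa [cs.inv_simple] at h1

theorem El.X01 {l : ℕ} {g : ↥(twistedD4 K q)} (E : El hK hφ l g) (hq : IsPrimePow q) {a : ↥(twistedD4 K q)}
    (ha : a ∈ X φ q ![0, 1]) (h : g * a = a * g) : a = 1 := by
  rw [← sr1_eq] at ha
  obtain ⟨s, rfl⟩ := (mem_X hφ hK 1 a).1 ha
  have h1 := act_up hK hφ E.mem 1 s
  rw [h, mul_inv_cancel_right] at h1
  have h2 : s = chD hφ hK 1 g * s := (coordD hφ hK 1).inj h1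
  have h3 : (chD hφ hK 1 g - 1) * s = 0 := by rw [sub_mul, one_mul, ← h2, sub_self]
  rcases mul_eq_zero.1 h3 with h4 | h4
  · exact absurd (sub_eq_zero.1 h4) (E.ch1 hq)
  · rw [h4, up_zero, map_one]

theorem El.X11 {l : ℕ} {g : ↥(twistedD4 K q)} (E : El hK hφ l g) (hq : IsPrimePow q) {a : ↥(twistedD4 K q)}
    (ha : a ∈ X φ q ![1, 1]) (h : g * a = a * g) : a = 1 := by
  have h1 := n_conj' hK hφ 0 (x := ![1, 1]) (by decide) ha
  rw [rep0] at h1
  have h2 := E.X01 hq (a := (n hφ 0)⁻¹ * a * n hφ 0) h1 (by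
    conv_lhs => rw [← E.n0 hq]
    conv_rhs => rw [← E.n0 hq]
    calc (n hφ 0)⁻¹ * g * n hφ 0 * ((n hφ 0)⁻¹ * a * n hφ 0) = (n hφ 0)⁻¹ * (g * a) * n hφ 0 := by group
      _ = _ := by rw [h]; group)
  have h3 : a = n hφ 0 * ((n hφ 0)⁻¹ * a * n hφ 0) * (n hφ 0)⁻¹ := by group
  rw [h3, h2, mul_one, mul_inv_cancel]

theorem El.X12 {l : ℕ} {g : ↥(twistedD4 K q)} (E : El hK hφ l g) (hq : IsPrimePow q) {a : ↥(twistedD4 K q)}
    (ha : a ∈ X φ q ![1, 2]) (h : g * a = a * g) : a = 1 := by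
  have h1 := n_conj' hK hφ 1 (x := ![1, 2]) (by decide) ha
  rw [rep1] at h1
  have h5 : g⁻¹ * ((n hφ 1)⁻¹ * a * n hφ 1) = ((n hφ 1)⁻¹ * a * n hφ 1) * g⁻¹ := by
    conv_lhs => rw [← E.n1 hq]
    conv_rhs => rw [← E.n1 hq]
    calc (n hφ 1)⁻¹ * g * n hφ 1 * ((n hφ 1)⁻¹ * a * n hφ 1) = (n hφ 1)⁻¹ * (g * a) * n hφ 1 := by group
      _ = _ := by rw [h]; group
  have h2 := E.X11 hq (a := (n hφ 1)⁻¹ * a * n hφ 1) h1 (by
    have h6 := congrArg (fun x => g * x * g) h5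
    simp only [mul_assoc, inv_mul_cancel, mul_one, mul_inv_cancel_left] at h6 ⊢
    rw [h6])
  have h3 : a = n hφ 1 * ((n hφ 1)⁻¹ * a * n hφ 1) * (n hφ 1)⁻¹ := by group
  rw [h3, h2, mul_one, mul_inv_cancel]

/-- the centraliser of `g` in `V_0` -/
theorem El.centr {l : ℕ} {g : ↥(twistedD4 K q)} (E : El hK hφ l g) (hq : IsPrimePow q) {v : ↥(twistedD4 K q)}
    (hv : v ∈ VJ cs isCartan (X φ q) {0}) (h : g * v = v * g) :
    ∃ a ∈ X φ q ![1, 3], ∃ b ∈ X φ q ![2, 3], v = a * b := by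
  obtain ⟨r, hr⟩ := CharP.exists K
  have : Fact r.Prime := ⟨CharP.char_is_prime K r⟩
  have : Finite CoxeterMatrix.G₂.Group := finiteW cs
  have R := rgd' hK hφ r
  have h1 : VJ cs isCartan (X φ q) {0} ≤ RGD.Sup (X φ q) (PW cs isCartan (cs.simple 0)) := by
    refine RGD.Sup_le fun x hx => RGD.le_Sup (S := PW cs isCartan (cs.simple 0)) ⟨hx.1, hx.2.1, ?_⟩
    refine hx.1.simple_nonneg hx.2.1 0 ?_
    rintro rfl
    obtain ⟨-, -, k, hk, hk'⟩ := hx
    rw [sr_ne fun h => hk (Set.mem_singleton_iff.2 h)] at hk'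
    exact lt_irrefl _ hk'
  have h2 := Cfsg.Agent.Nodes.NormalForm.centralizer_PW R (cs.simple 0) (S := {g})
    (Set.singleton_subset_iff.2 E.mem) (h1 hv) (Subgroup.mem_centralizer_singleton_iff.2 h.symm)
  have h3 : RGD.Sup (fun x => X φ q x ⊓ Subgroup.centralizer {g}) (PW cs isCartan (cs.simple 0)) ≤
      X φ q ![1, 3] ⊔ X φ q ![2, 3] := by
    refine RGD.Sup_le (X := fun x => X φ q x ⊓ Subgroup.centralizer {g}) fun x hx => ?_
    rintro a ⟨ha, ha'⟩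
    have hcomm : g * a = a * g := (Subgroup.mem_centralizer_singleton_iff.1 ha').symm
    have hmem := root_mem hx.1
    have hx0 : 0 ≤ x 0 := hx.2.1 0
    have hx1 : 0 ≤ x 1 := hx.2.1 1
    have hx2 := hx.2.2
    simp only [rts, List.mem_cons, List.not_mem_nil, or_false] at hmem
    rcases hmem with rfl | rfl | rfl | rfl | rfl | rfl | rfl | rfl | rfl | rfl | rfl | rfl
    · exfalso
      rw [rep0] at hx2
      have := hx2 0
      simp at this
    · rw [E.X01 hq ha hcomm]; exact one_mem _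
    · rw [E.X11 hq ha hcomm]; exact one_mem _
    · rw [E.X12 hq ha hcomm]; exact one_mem _
    · exact Subgroup.mem_sup_left ha
    · exact Subgroup.mem_sup_right ha
    all_goals (exfalso; simp at hx0 hx1)
  have h4 : v ∈ ((X φ q ![1, 3] ⊔ X φ q ![2, 3] : Subgroup ↥(twistedD4 K q)) : Set ↥(twistedD4 K q)) := h3 h2
  rw [Subgroup.coe_mul_of_left_le_normalizer_right, Set.mem_mul] at h4
  · obtain ⟨a, ha, b, hb, e⟩ := h4
    exact ⟨a, ha, b, hb, e.symm⟩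
  · intro a ha
    rw [Subgroup.mem_normalizer_iff]
    intro b
    constructor
    · intro hb
      rw [comm_del_the hK hφ ha hb, mul_inv_cancel_right]
      exact hb
    · intro hb
      have h5 : b = a⁻¹ * (a * b * a⁻¹) * a := by group
      rw [comm_del_the hK hφ (inv_mem ha) hb, inv_mul_cancel_right] at h5
      rw [h5]
      exact hb

end Cfsg.Agent.H866.OZ.D4
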