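import Mathlib
import Cfsg.Agent.H866.OZ.Elts
import Cfsg.Agent.Nodes.CardSup

/-!
# S4842: elements of `³D₄(q)`, part two (helper866)
-/

set_option autoImplicit false
set_option linter.unusedSectionVars false
set_option maxHeartbeats 400000

namespace Cfsg.Agent.H866.OZ.D4

open CoxeterSystem Cfsg.Agent.ChevalleyStructure.CoxeterGeom Cfsg.Agent.Tits.Roots Cfsg.Agent.Tits.Core
  Cfsg.Agent.Tits.Exchange Cfsg.Agent.Nodes.Reps Cfsg.Agent.Nodes.BNOf Cfsg.Agent.Nodes.StabComb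
  Cfsg.Agent.Nodes.Bruhat Cfsg.Agent.Nodes.OppDec Cfsg.Agent.Nodes.LeviDec Cfsg.Agent.Nodes.RGDTwGen
  Cfsg.Agent.Nodes.RGDChev Cfsg.Agent.Nodes.RGDFold Cfsg.Agent.Nodes.RGDFoldSL
open Cfsg.Agent.KFacts.RgdOpp Cfsg.Agent.KFacts.RgdAut Cfsg.Agent.KFacts.RgdDiag Cfsg.Agent.KFacts.RgdRigid
  Cfsg.Agent.KFacts.RgdField Cfsg.Agent.KFacts.RgdTau Cfsg.Agent.KFacts.RgdNodes
open Cfsg.Lie Cfsg.Agent.ChevalleyStructure Cfsg.Agent.ChevalleyStructure.Elts
open Cfsg.Agent.ChevalleyStructure.SL2Hom (up lo mem_closure_SL2)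
open Cfsg.Agent.KFacts.TwDFour.Out
open Cfsg.Agent.Nodes.RGDTwD4 Cfsg.Agent.Nodes.RGDTwNode.D4
open Cfsg.Agent.CpAut.RgdFix Cfsg.Agent.CpAut.RgdConj Cfsg.Agent.CpAut.RgdTwStd Cfsg.Agent.CpAut.RgdTwD4
open Cfsg.Agent.H866.D4Wf.Frame
open Cfsg.Agent.KFacts.TwESix.NodeCoord (hS_mul)

variable {K : Type} [Field K] [Fintype K] {q : ℕ} (hK : Fintype.card K = q ^ 3)
  {φ : K →+* K} (hφ : ∀ x, φ x = x ^ q)

/-! ### conjugation into `X_(1,3)` -/

include hK hφ in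
theorem card_X23 (hq : IsPrimePow q) : Nat.card (X φ q ![2, 3]) = q := by
  obtain ⟨r, hr⟩ := CharP.exists K
  have : Fact r.Prime := ⟨CharP.char_is_prime K r⟩
  have : Finite CoxeterMatrix.G₂.Group := finiteW cs
  have R := rgd' hK hφ r
  have h1 := Cfsg.Agent.Nodes.CardSup.card_X_rep R (cs.simple 1) (isRoot_sr cs isCartan 0)
  rw [sr0_eq, rep1] at h1
  have h2 := Cfsg.Agent.Nodes.CardSup.card_X_rep R (cs.simple 0) (isRoot_of_mem (z := ![1, 3]) (by decide))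
  rw [rep0] at h2
  have h3 : (![1, 3 * 1 - 0] : Fin 2 → ℤ) = ![1, 3] := by decide
  have h4 : (![3 - 1, 3] : Fin 2 → ℤ) = ![2, 3] := by decide
  rw [h3] at h1
  rw [h4] at h2
  rw [h2, h1, ← sr0_eq, card_X0 hK hφ hq]

include hK in
/-- the conjugate by `n_0` of an element of `X_(1,3)` -/
theorem n0_del {a : ↥(twistedD4 K q)} (ha : a ∈ X φ q ![1, 3]) : n hφ 0 * a * (n hφ 0)⁻¹ ∈ X φ q ![2, 3] := by
  have h1 := n_conj hK hφ 0 (x := ![1, 3]) (by decide) ha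
  rwa [rep0, show (![3 - 1, 3] : Fin 2 → ℤ) = ![2, 3] by decide] at h1

include hK in
/-- kill an element of `X_(1,3)` -/
theorem del_kill {a : ↥(twistedD4 K q)} (ha : a ∈ X φ q ![1, 3]) {B : Matrix.SpecialLinearGroup (Fin 2) (KD φ 0)}
    (hB : (wS 1 * B * (wS 1)⁻¹).1 1 0 ≠ 0) (h : PhiD hφ hK 0 B * a = a * PhiD hφ hK 0 B) : a = 1 := by
  have h1 : n hφ 0 * a * (n hφ 0)⁻¹ = 1 := by
    refine bruhat hK hφ (i := 0) (y := ![2, 3]) (by decide) (fun x hx b hb => ?_) ?_ hB (n0_del hK hφ ha)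
      (n0_del hK hφ ha) ?_
    · rw [sr0_eq] at hx
      exact comm_sr0_the hK hφ hx hb
    · rw [rep0]; decide
    · rw [map_mul, map_mul, map_inv, PhiD_wS]
      calc _ = n hφ 0 * (PhiD hφ hK 0 B * a) * (PhiD hφ hK 0 B)⁻¹ * (n hφ 0)⁻¹ := by group
        _ = _ := by rw [h]; group
  have h2 : a = (n hφ 0)⁻¹ * (n hφ 0 * a * (n hφ 0)⁻¹) * n hφ 0 := by group
  rw [h2, h1, mul_one, inv_mul_cancel]

include hK in
theorem the_kill {b : ↥(twistedD4 K q)} (hb : b ∈ X φ q ![2, 3]) {B : Matrix.SpecialLinearGroup (Fin 2) (KD φ 0)}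
    (hB : B.1 1 0 ≠ 0) (h : PhiD hφ hK 0 B * b = b * PhiD hφ hK 0 B) : b = 1 := by
  refine bruhat hK hφ (i := 0) (y := ![2, 3]) (by decide) (fun x hx b hb => ?_) ?_ hB hb hb ?_
  · rw [sr0_eq] at hx
    exact comm_sr0_the hK hφ hx hb
  · rw [rep0]; decide
  · rw [h, mul_inv_cancel_right]

include hK in
/-- **(E7b)** -/
theorem exists_conj_del (hq : IsPrimePow q) {a b : ↥(twistedD4 K q)} (ha : a ∈ X φ q ![1, 3])
    (hb : b ∈ X φ q ![2, 3]) (ha1 : a ≠ 1) :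
    ∃ s : KD φ 0, PhiD hφ hK 0 (up s) * (a * b) * (PhiD hφ hK 0 (up s))⁻¹ = a := by
  classical
  have := Fintype.ofFinite (KD φ 0)
  have hup : ∀ s, PhiD hφ hK 0 (up s) ∈ X φ q ![1, 0] := fun s => by
    rw [← sr0_eq]
    exact (mem_X hφ hK 0 _).2 ⟨s, rfl⟩
  let f : KD φ 0 → X φ q ![2, 3] := fun s =>
    ⟨PhiD hφ hK 0 (up s) * a * (PhiD hφ hK 0 (up s))⁻¹ * a⁻¹, comm_sr0_del hK hφ (hup s) ha⟩
  have hf : Function.Injective f := by
    intro s s' e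
    by_contra hne
    apply ha1
    have e1 := congrArg Subtype.val e
    have e2 : PhiD hφ hK 0 (up s) * a * (PhiD hφ hK 0 (up s))⁻¹ = PhiD hφ hK 0 (up s') * a * (PhiD hφ hK 0 (up s'))⁻¹ :=
      mul_right_cancel e1
    refine del_kill hK hφ ha (B := (up s')⁻¹ * up s) ?_ ?_
    · have h1 : (wS 1 * ((up s')⁻¹ * up s) * (wS 1)⁻¹ : Matrix.SpecialLinearGroup (Fin 2) (KD φ 0)).1 1 0 = s' - s := by
        have hu : ∀ s : KD φ 0, (up s : Matrix.SpecialLinearGroup (Fin 2) (KD φ 0)).1 = !![1, s; 0, 1] := fun s => rfl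
        have e3 : (up s')⁻¹ * up s = up (s - s') := by
          apply Subtype.ext
          rw [Matrix.SpecialLinearGroup.coe_mul, Matrix.SpecialLinearGroup.coe_inv, hu, hu, hu, Matrix.adjugate_fin_two]
          ext i j
          fin_cases i <;> fin_cases j <;> simp [Matrix.mul_apply, Fin.sum_univ_two]
          ring
        rw [e3, Matrix.SpecialLinearGroup.coe_mul, Matrix.SpecialLinearGroup.coe_mul, Matrix.SpecialLinearGroup.coe_inv,
          coe_wS one_ne_zero, hu, Matrix.adjugate_fin_two]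
        simp [Matrix.mul_apply, Fin.sum_univ_two]
      rw [h1]
      exact sub_ne_zero.2 fun h => hne h.symm
    · rw [map_mul, map_inv]
      calc _ = (PhiD hφ hK 0 (up s'))⁻¹ * (PhiD hφ hK 0 (up s) * a * (PhiD hφ hK 0 (up s))⁻¹) *
            PhiD hφ hK 0 (up s) := by group
        _ = _ := by rw [e2]; group
  have hcard : Nat.card (KD φ 0) = Nat.card (X φ q ![2, 3]) := by rw [card_KD0 hK hφ hq, card_X23 hK hφ hq]
  obtain ⟨s, hs⟩ := ((Nat.bijective_iff_injective_and_card f).2 ⟨hf, hcard⟩).2 ⟨b⁻¹, inv_mem hb⟩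
  have hs' : PhiD hφ hK 0 (up s) * a * (PhiD hφ hK 0 (up s))⁻¹ * a⁻¹ = b⁻¹ := congrArg Subtype.val hs
  refine ⟨s, ?_⟩
  have h1 : PhiD hφ hK 0 (up s) * a * (PhiD hφ hK 0 (up s))⁻¹ = b⁻¹ * a := by
    rw [← hs', inv_mul_cancel_right]
  have h2 : PhiD hφ hK 0 (up s) * b * (PhiD hφ hK 0 (up s))⁻¹ = b := by
    rw [comm_sr0_the hK hφ (hup s) hb, mul_inv_cancel_right]
  calc _ = (PhiD hφ hK 0 (up s) * a * (PhiD hφ hK 0 (up s))⁻¹) * (PhiD hφ hK 0 (up s) * b * (PhiD hφ hK 0 (up s))⁻¹) := by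
        group
    _ = b⁻¹ * (a * b) := by rw [h1, h2, mul_assoc]
    _ = a := by rw [comm_del_the hK hφ ha hb, inv_mul_cancel_left]

variable {hK hφ}

/-- **no fixed points in `V_0`** -/
theorem El.free {l : ℕ} {g : ↥(twistedD4 K q)} (E : El hK hφ l g) (hq : IsPrimePow q)
    (hm : ¬ l ∣ Nat.card (Matrix.SpecialLinearGroup (Fin 2) (KD φ 0)))
    {B : Matrix.SpecialLinearGroup (Fin 2) (KD φ 0)} (hB : Ellip B) {v : ↥(twistedD4 K q)}
    (hv : v ∈ VJ cs isCartan (X φ q) {0}) (h : g * PhiD hφ hK 0 B * v = v * (g * PhiD hφ hK 0 B)) : v = 1 := by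
  classical
  have := Fintype.ofFinite (KD φ 0)
  obtain ⟨m, hm'⟩ : ∃ m, m = Nat.card (Matrix.SpecialLinearGroup (Fin 2) (KD φ 0)) := ⟨_, rfl⟩
  rw [← hm'] at hm
  have hcomm := E.comm0 hq B
  have hBm : B ^ m = 1 := by rw [hm']; exact pow_card_eq_one'
  have h1 : g ^ m * v = v * g ^ m := by
    have h2 : Commute (g * PhiD hφ hK 0 B) v := h
    have h3 := h2.pow_left m
    have h4 : (g * PhiD hφ hK 0 B) ^ m = g ^ m := by
      rw [(show Commute g (PhiD hφ hK 0 B) from hcomm).mul_pow, ← map_pow, hBm, map_one, mul_one]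
    rw [h4] at h3
    exact h3
  have h2 : g * v = v * g := by
    have hcop : Nat.Coprime m l := ((Nat.Prime.coprime_iff_not_dvd E.prime).2 hm).symm
    obtain ⟨k, hk⟩ := exists_pow_eq_self_of_coprime (n := m) (x := g) (by
      have h3 : orderOf g ∣ l := orderOf_dvd_of_pow_eq_one E.pow
      exact Nat.Coprime.coprime_dvd_right h3 hcop)
    have h3 : Commute (g ^ m) v := h1
    have h4 := h3.pow_left k
    rw [hk] at h4
    exact h4
  have h3 : PhiD hφ hK 0 B * v = v * PhiD hφ hK 0 B := by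
    have h4 : g * (PhiD hφ hK 0 B * v) = g * (v * PhiD hφ hK 0 B) := by
      rw [← mul_assoc, h, ← mul_assoc, ← mul_assoc, ← h2]
    exact mul_left_cancel h4
  obtain ⟨a, ha, b, hb, rfl⟩ := E.centr hq hv h2
  have ha1 : a = 1 := by
    by_contra hne
    obtain ⟨s, hs⟩ := exists_conj_del hK hφ hq ha hb hne
    apply hne
    refine del_kill hK hφ ha (B := up s * B * (up s)⁻¹) ?_ ?_
    · have h5 := hB (wS 1 * up s)⁻¹
      have h6 : (wS 1 * up s)⁻¹⁻¹ * B * (wS 1 * up s)⁻¹ = wS 1 * (up s * B * (up s)⁻¹) * (wS 1)⁻¹ := by group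
      rwa [h6] at h5
    · rw [map_mul, map_mul, map_inv]
      conv_lhs => rw [← hs]
      conv_rhs => rw [← hs]
      calc _ = PhiD hφ hK 0 (up s) * (PhiD hφ hK 0 B * (a * b)) * (PhiD hφ hK 0 (up s))⁻¹ := by group
        _ = _ := by rw [h3]; group
  subst ha1
  rw [one_mul] at h3 ⊢
  have h5 := hB 1
  rw [inv_one, one_mul, mul_one] at h5
  exact the_kill hK hφ hb h5 h3

/-! ### the Weyl group -/

/-- `w' = s_1 s_0 s_1 s_0 s_1` -/
noncomputable def w' : CoxeterMatrix.G₂.Group :=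
  cs.simple 1 * cs.simple 0 * cs.simple 1 * cs.simple 0 * cs.simple 1

theorem rep_w' (a b : ℤ) : rep cs isCartan w' ![a, b] = ![a - b, -b] := by
  rw [w', rep_mul_apply, rep_mul_apply, rep_mul_apply, rep_mul_apply, rep1, rep0, rep1, rep0, rep1]
  ext i
  fin_cases i
  · simp; ring
  · simp; ring

theorem not_three (w : CoxeterMatrix.G₂.Group) : ¬ 3 ∣ (rep cs isCartan w (sr 1) : Fin 2 → ℤ) 1 := by
  induction w using cs.simple_induction_left with
  | one => rw [map_one, sr1_eq]; decide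
  | mul_simple_left w i ih =>
    rw [rep_mul_apply]
    obtain ⟨x, hx⟩ : ∃ x : Fin 2 → ℤ, x = rep cs isCartan w (sr 1) := ⟨_, rfl⟩
    rw [← hx] at ih ⊢
    have hx' : x = ![x 0, x 1] := by ext i; fin_cases i <;> rfl
    have hi : i = 0 ∨ i = 1 := by fin_cases i <;> simp
    rcases hi with rfl | rfl
    · rw [hx', rep0]
      exact ih
    · rw [hx', rep1]
      intro h
      apply ih
      have h1 : (3 : ℤ) ∣ 3 * x 0 - x 1 := h
      have h2 := (Int.dvd_sub (Dvd.intro _ rfl) h1 : (3 : ℤ) ∣ 3 * x 0 - (3 * x 0 - x 1))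
      rwa [sub_sub_cancel] at h2

theorem hij (w : CoxeterMatrix.G₂.Group) :
    rep cs isCartan w⁻¹ (sr 1) ≠ sr 0 ∧ rep cs isCartan w⁻¹ (sr 1) ≠ -sr 0 := by
  constructor
  · intro h
    apply not_three w⁻¹
    rw [h, sr0_eq]
    decide
  · intro h
    apply not_three w⁻¹
    rw [h, sr0_eq]
    decide

theorem w_cases {w : CoxeterMatrix.G₂.Group} (h : rep cs isCartan w (sr 0) = sr 0) : w = 1 ∨ w' * w = 1 := by
  have hroot : IsRoot cs isCartan (rep cs isCartan w (sr 1)) := ⟨_, _, rfl⟩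
  rcases hroot.pos_or_neg with h1 | h1
  · left
    apply eq_one_of_nonneg cs isCartan
    intro i
    have hi : i = 0 ∨ i = 1 := by fin_cases i <;> simp
    rcases hi with rfl | rfl
    · show 0 ≤ rep cs isCartan w (sr 0)
      rw [h, sr0_eq]
      intro j
      fin_cases j <;> simp
    · exact h1
  · right
    apply eq_one_of_nonneg cs isCartan
    intro i
    have hi : i = 0 ∨ i = 1 := by fin_cases i <;> simp
    rcases hi with rfl | rfl
    · show 0 ≤ rep cs isCartan (w' * w) (sr 0)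
      rw [rep_mul_apply, h, sr0_eq, rep_w']
      intro j
      fin_cases j <;> simp
    · show 0 ≤ rep cs isCartan (w' * w) (sr 1)
      rw [rep_mul_apply]
      have h3 := not_three w
      have hmem := root_mem hroot
      obtain ⟨x, hx⟩ : ∃ x : Fin 2 → ℤ, x = rep cs isCartan w (sr 1) := ⟨_, rfl⟩
      rw [← hx] at h1 h3 hmem ⊢
      have hx0 : x 0 ≤ 0 := h1 0
      have hx1 : x 1 ≤ 0 := h1 1
      simp only [rts, List.mem_cons, List.not_mem_nil, or_false] at hmem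
      rcases hmem with rfl | rfl | rfl | rfl | rfl | rfl | rfl | rfl | rfl | rfl | rfl | rfl
      all_goals first
        | (exfalso; simp at hx0 hx1; done)
        | (exfalso; simp at h3; done)
        | (rw [rep_w']; intro j; fin_cases j <;> simp)

variable (hK hφ)

/-- `n'` -/
noncomputable def n' : ↥(twistedD4 K q) := n hφ 1 * n hφ 0 * n hφ 1 * n hφ 0 * n hφ 1

include hK in
theorem rp_n' (r : ℕ) [Fact r.Prime] [CharP K r] : Rp cs (rgd' hK hφ r).nsys w' (n' hφ) := by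
  have R := rgd' hK hφ r
  have h0 := rp_simple cs R.nsys 0
  have h1 := rp_simple cs R.nsys 1
  exact (((h1.mul h0).mul h1).mul h0).mul h1

include hK in
/-- `n'` normalises `L_0` -/
theorem n'_norm {r : ℕ} [Fact r.Prime] [CharP K r] {k : ↥(twistedD4 K q)} {w : CoxeterMatrix.G₂.Group}
    (hk : Rp cs (rgd' hK hφ r).nsys w k) (hw : rep cs isCartan w⁻¹ (sr 0) = sr 0) {l : ↥(twistedD4 K q)}
    (hl : l ∈ LJ cs isCartan (T K q) (X φ q) {0}) : k⁻¹ * l * k ∈ LJ cs isCartan (T K q) (X φ q) {0} := by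
  have : Finite CoxeterMatrix.G₂.Group := finiteW cs
  have R := rgd' hK hφ r
  have h1 : LJ cs isCartan (T K q) (X φ q) {0} ≤
      (LJ cs isCartan (T K q) (X φ q) {0}).comap (MulAut.conj k⁻¹).toMonoidHom := by
    refine sup_le ?_ (RGD.Sup_le fun x hx => ?_)
    · intro t ht
      rw [Subgroup.mem_comap]
      refine Subgroup.mem_sup_left ?_
      show k⁻¹ * t * k⁻¹⁻¹ ∈ T K q
      exact (Subgroup.mem_normalizer_iff.1 hk.inv.mem_normalizer t).1 ht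
    · intro y hy
      rw [Subgroup.mem_comap]
      show k⁻¹ * y * k⁻¹⁻¹ ∈ LJ cs isCartan (T K q) (X φ q) {0}
      rw [inv_inv]
      have h2 := R.conj_mem' hk hx.1 hy
      have h3 : rep cs isCartan w⁻¹ x = x := by
        rcases Cfsg.Agent.H866.D4Wf.eq_of_mem_RootsJ R hx with h4 | h4
        · rw [h4, hw]
        · rw [h4, map_neg, hw]
      rw [h3] at h2
      have h4 : X φ q x ≤ RGD.Sup (X φ q) (RootsJ cs isCartan {0}) := RGD.le_Sup (S := RootsJ cs isCartan {0}) hx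
      exact Subgroup.mem_sup_right (h4 h2)
  have h2 := h1 hl
  rw [Subgroup.mem_comap] at h2
  have h3 : (MulAut.conj k⁻¹).toMonoidHom l = k⁻¹ * l * k := by
    show k⁻¹ * l * k⁻¹⁻¹ = _
    rw [inv_inv]
  rwa [h3] at h2

theorem rep_w'_sr0 : rep cs isCartan w' (sr 0) = sr 0 := by
  rw [sr0_eq, rep_w']
  ext i
  fin_cases i <;> simp

theorem rep_w'_inv_sr0 : rep cs isCartan w'⁻¹ (sr 0) = sr 0 := by
  have h1 : rep cs isCartan w'⁻¹ (rep cs isCartan w' (sr 0)) = sr 0 := by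
    rw [← rep_mul_apply, inv_mul_cancel, map_one]
    rfl
  rwa [rep_w'_sr0] at h1

include hK in
/-- both conjugates -/
theorem n'_both {l : ↥(twistedD4 K q)} (hl : l ∈ LJ cs isCartan (T K q) (X φ q) {0}) :
    (n' hφ)⁻¹ * l * n' hφ ∈ LJ cs isCartan (T K q) (X φ q) {0} ∧
      n' hφ * l * (n' hφ)⁻¹ ∈ LJ cs isCartan (T K q) (X φ q) {0} := by
  obtain ⟨r, hr⟩ := CharP.exists K
  have : Fact r.Prime := ⟨CharP.char_is_prime K r⟩
  refine ⟨n'_norm hK hφ (rp_n' hK hφ r) rep_w'_inv_sr0 hl, ?_⟩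
  have h1 := n'_norm hK hφ (rp_n' hK hφ r).inv (by rw [inv_inv]; exact rep_w'_sr0) hl
  rwa [inv_inv] at h1

include hK in
/-- the dichotomy -/
theorem dich {r : ℕ} [Fact r.Prime] [CharP K r] {w : CoxeterMatrix.G₂.Group} {k : ↥(twistedD4 K q)}
    (hk : Rp cs (rgd' hK hφ r).nsys w k)
    (hw : rep cs isCartan w⁻¹ (sr 0) = sr 0 ∨ rep cs isCartan w⁻¹ (sr 0) = -sr 0) :
    k ∈ LJ cs isCartan (T K q) (X φ q) {0} ∨ (n' hφ)⁻¹ * k ∈ LJ cs isCartan (T K q) (X φ q) {0} := by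
  have : Finite CoxeterMatrix.G₂.Group := finiteW cs
  have R := rgd' hK hφ r
  have hTL : T K q ≤ LJ cs isCartan (T K q) (X φ q) {0} := le_sup_left
  have key : ∀ {w : CoxeterMatrix.G₂.Group} {k : ↥(twistedD4 K q)}, Rp cs R.nsys w k →
      rep cs isCartan w⁻¹ (sr 0) = sr 0 → k ∈ T K q ∨ (n' hφ)⁻¹ * k ∈ T K q := by
    intro w k hk h1
    rcases w_cases h1 with h2 | h2
    · left
      rw [inv_eq_one] at h2
      rw [h2] at hk
      exact hk.mem_of_one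
    · right
      rw [mul_inv_eq_one] at h2
      rw [← h2] at hk
      exact (rp_n' hK hφ r).unique hk
  rcases hw with h1 | h1
  · rcases key hk h1 with h2 | h2
    · exact Or.inl (hTL h2)
    · exact Or.inr (hTL h2)
  · have hn : n hφ 0 ∈ LJ cs isCartan (T K q) (X φ q) {0} := n_mem_LJ R (Set.mem_singleton 0)
    have h3 := key ((rp_simple cs R.nsys 0).mul hk) (by
      rw [mul_inv_rev, cs.inv_simple, rep_mul_apply, rep_simple_sr, map_neg, h1, neg_neg])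
    rcases h3 with h3 | h3
    · left
      have h4 : k = (n hφ 0)⁻¹ * (n hφ 0 * k) := by group
      rw [h4]
      exact mul_mem (inv_mem hn) (hTL h3)
    · right
      have h4 : (n' hφ)⁻¹ * k = ((n' hφ)⁻¹ * (n hφ 0)⁻¹ * n' hφ) * ((n' hφ)⁻¹ * (n hφ 0 * k)) := by group
      rw [h4]
      exact mul_mem (n'_both hK hφ (inv_mem hn)).1 (hTL h3)

variable {hK hφ}

theorem El.invEl {l : ℕ} {g : ↥(twistedD4 K q)} (E : El hK hφ l g) : El hK hφ l g⁻¹ :=
  ⟨inv_mem E.mem, by rw [inv_pow, E.pow, inv_one], fun h => E.ne (inv_eq_one.1 h), E.prime, E.odd, E.cop⟩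

theorem El.n'_inv {l : ℕ} {g : ↥(twistedD4 K q)} (E : El hK hφ l g) (hq : IsPrimePow q) :
    (n' hφ)⁻¹ * g * n' hφ = g⁻¹ := by
  have h0 := E.n0 hq
  have h1 := E.n1 hq
  have h0' := E.invEl.n0 hq
  have h1' := E.invEl.n1 hq
  rw [inv_inv] at h1'
  calc (n' hφ)⁻¹ * g * n' hφ = (n hφ 1)⁻¹ * ((n hφ 0)⁻¹ * ((n hφ 1)⁻¹ * ((n hφ 0)⁻¹ * ((n hφ 1)⁻¹ * g * n hφ 1) *
        n hφ 0) * n hφ 1) * n hφ 0) * n hφ 1 := by rw [n']; group
    _ = g⁻¹ := by rw [h1, h0', h1', h0, h1]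

variable (hK hφ)

theorem conj_range {k : ↥(twistedD4 K q)} {r : ℕ} [Fact r.Prime] [CharP K r] {w : CoxeterMatrix.G₂.Group}
    (hk : Rp cs (rgd' hK hφ r).nsys w k) (hw : rep cs isCartan w⁻¹ (sr 0) = sr 0)
    (B : Matrix.SpecialLinearGroup (Fin 2) (KD φ 0)) : ∃ B', k⁻¹ * PhiD hφ hK 0 B * k = PhiD hφ hK 0 B' := by
  have R := rgd' hK hφ r
  have h3 : Subgroup.closure (Set.range (up (F := KD φ 0)) ∪ Set.range (lo (F := KD φ 0))) ≤
      (PhiD hφ hK 0).range.comap ((MulAut.conj k⁻¹).toMonoidHom.comp (PhiD hφ hK 0)) := by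
    rw [Subgroup.closure_le]
    rintro _ (⟨a, rfl⟩ | ⟨a, rfl⟩)
    · have h4 := R.conj_mem' hk (isRoot_sr cs isCartan 0) ((mem_X hφ hK 0 _).2 ⟨a, rfl⟩)
      rw [hw] at h4
      obtain ⟨b, hb⟩ := (mem_X hφ hK 0 _).1 h4
      refine ⟨up b, ?_⟩
      rw [← hb]
      show _ = k⁻¹ * PhiD hφ hK 0 (up a) * k⁻¹⁻¹
      rw [inv_inv]
    · have h4 := R.conj_mem' hk (isRoot_sr cs isCartan 0).neg ((mem_negX hK hφ 0 _).2 ⟨a, rfl⟩)
      rw [map_neg, hw] at h4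
      obtain ⟨b, hb⟩ := (mem_negX hK hφ 0 _).1 h4
      refine ⟨lo b, ?_⟩
      rw [← hb]
      show _ = k⁻¹ * PhiD hφ hK 0 (lo a) * k⁻¹⁻¹
      rw [inv_inv]
  obtain ⟨B', hB'⟩ := h3 (mem_closure_SL2 B)
  refine ⟨B', ?_⟩
  rw [hB']
  show _ = k⁻¹ * PhiD hφ hK 0 B * k⁻¹⁻¹
  rw [inv_inv]

theorem eq_hS_up {F : Type*} [Field F] {E : Matrix.SpecialLinearGroup (Fin 2) F} (h : E.1 1 0 = 0) :
    E.1 0 0 ≠ 0 ∧ E = hS (E.1 0 0) * up (E.1 0 1 / E.1 0 0) := by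
  have hdet := E.2
  rw [Matrix.det_fin_two, h, mul_zero, sub_zero] at hdet
  have h0 : E.1 0 0 ≠ 0 := left_ne_zero_of_mul_eq_one hdet
  have h11 : E.1 1 1 = (E.1 0 0)⁻¹ := eq_inv_of_mul_eq_one_right hdet
  refine ⟨h0, Subtype.ext ?_⟩
  have hu : ∀ s : F, (up s : Matrix.SpecialLinearGroup (Fin 2) F).1 = !![1, s; 0, 1] := fun s => rfl
  rw [Matrix.SpecialLinearGroup.coe_mul, coe_hS h0, hu]
  ext i j
  fin_cases i <;> fin_cases j
  · simp [Matrix.mul_apply, Fin.sum_univ_two]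
  · simp [Matrix.mul_apply, Fin.sum_univ_two, mul_div_cancel₀ _ h0]
  · simpa [Matrix.mul_apply, Fin.sum_univ_two] using h
  · simpa [Matrix.mul_apply, Fin.sum_univ_two] using h11

/-- ellipticity is preserved by `n'` -/
theorem ellip_conj {k : ↥(twistedD4 K q)} {r : ℕ} [Fact r.Prime] [CharP K r] {w : CoxeterMatrix.G₂.Group}
    (hk : Rp cs (rgd' hK hφ r).nsys w k) (hw : rep cs isCartan w⁻¹ (sr 0) = sr 0)
    {B B' : Matrix.SpecialLinearGroup (Fin 2) (KD φ 0)} (hB : Ellip B)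
    (h : k⁻¹ * PhiD hφ hK 0 B * k = PhiD hφ hK 0 B') : Ellip B' := by
  have : Finite CoxeterMatrix.G₂.Group := finiteW cs
  have R := rgd' hK hφ r
  have hw' : rep cs isCartan w (sr 0) = sr 0 := by
    have h1 : rep cs isCartan w (rep cs isCartan w⁻¹ (sr 0)) = sr 0 := by
      rw [← rep_mul_apply, mul_inv_cancel, map_one]
      rfl
    rwa [hw] at h1
  intro C hC
  obtain ⟨D, hD⟩ := conj_range hK hφ hk.inv (by rw [inv_inv]; exact hw') C
  rw [inv_inv] at hD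
  have hE := hB D
  obtain ⟨F, hF⟩ : ∃ F, F = C⁻¹ * B' * C := ⟨_, rfl⟩
  rw [← hF] at hC
  obtain ⟨h0, e⟩ := eq_hS_up hC
  have hTB : T K q ≤ RGD.B cs isCartan (T K q) (X φ q) := RGD.T_le_B
  have hXB : X φ q (sr 0) ≤ RGD.B cs isCartan (T K q) (X φ q) :=
    le_trans (RGD.le_Sup (S := RGD.Pos cs isCartan) ⟨isRoot_sr cs isCartan 0, sr_nonneg 0⟩) RGD.U_le_B
  have h1 : PhiD hφ hK 0 (D⁻¹ * B * D) = k * PhiD hφ hK 0 F * k⁻¹ := by
    rw [hF, map_mul, map_mul, map_mul, map_mul, map_inv, map_inv, ← hD, ← h]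
    group
  have h2 : PhiD hφ hK 0 (D⁻¹ * B * D) ∈ RGD.B cs isCartan (T K q) (X φ q) := by
    have h3 : k * PhiD hφ hK 0 F * k⁻¹ = (k * PhiD hφ hK 0 (hS (F.1 0 0)) * k⁻¹) *
          (k * PhiD hφ hK 0 (up (F.1 0 1 / F.1 0 0)) * k⁻¹) := by
      have h4 : PhiD hφ hK 0 F = PhiD hφ hK 0 (hS (F.1 0 0)) * PhiD hφ hK 0 (up (F.1 0 1 / F.1 0 0)) := by
        rw [← map_mul, ← e]
      rw [h4]
      group
    rw [h1, h3]
    refine mul_mem (hTB ?_) (hXB ?_)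
    · exact (Subgroup.mem_normalizer_iff.1 hk.mem_normalizer _).1 (PhiD_hS hφ hK 0 _ h0)
    · have h5 : PhiD hφ hK 0 (up (F.1 0 1 / F.1 0 0)) ∈ X φ q (sr 0) := (mem_X hφ hK 0 _).2 ⟨_, rfl⟩
      have h4 := R.conj_mem hk (isRoot_sr cs isCartan 0) h5
      rw [hw'] at h4
      exact h4
  have e2 := Cfsg.Agent.KFacts.TwESix.NodeCoord.eq_of_ne_zero hE
  obtain ⟨A, hA⟩ : ∃ A, A = D⁻¹ * B * D := ⟨_, rfl⟩
  rw [← hA] at h2 e2 hE
  have hc : -(A.1 1 0)⁻¹ ≠ 0 := neg_ne_zero.2 (inv_ne_zero hE)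
  have hT := PhiD_hS hφ hK 0 _ hc
  have hup : ∀ a, PhiD hφ hK 0 (up a) ∈ X φ q (sr 0) := fun a => (mem_X hφ hK 0 _).2 ⟨a, rfl⟩
  have h5 : n hφ 0 = (PhiD hφ hK 0 (hS (-(A.1 1 0)⁻¹)))⁻¹ * (PhiD hφ hK 0 (up (A.1 0 0 / A.1 1 0)))⁻¹ *
      PhiD hφ hK 0 A * (PhiD hφ hK 0 (up (A.1 1 1 / A.1 1 0)))⁻¹ := by
    have h6 : PhiD hφ hK 0 A = PhiD hφ hK 0 (up (A.1 0 0 / A.1 1 0)) * (PhiD hφ hK 0 (hS (-(A.1 1 0)⁻¹)) * n hφ 0) *
        PhiD hφ hK 0 (up (A.1 1 1 / A.1 1 0)) := by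
      rw [← PhiD_wS hφ hK, ← map_mul, ← map_mul, ← map_mul, ← e2]
    rw [h6]
    group
  have h7 : n hφ 0 ∈ RGD.B cs isCartan (T K q) (X φ q) := by
    rw [h5]
    exact mul_mem (mul_mem (mul_mem (inv_mem (hTB hT)) (inv_mem (hXB (hup _)))) h2) (inv_mem (hXB (hup _)))
  have h8 := RGD.eq_one_of_mem_B R (rp_simple cs R.nsys 0) h7
  have h9 := cs.length_simple 0
  rw [h8, cs.length_one] at h9
  exact zero_ne_one h9

/-! ### elliptic elements exist -/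

theorem exists_ellip {F : Type*} [Field F] [Finite F] : ∃ B : Matrix.SpecialLinearGroup (Fin 2) F, Ellip B := by
  classical
  have := Fintype.ofFinite F
  obtain ⟨τ, hτ⟩ : ∃ τ : F, ∀ x : F, x ≠ 0 → x + x⁻¹ ≠ τ := by
    by_contra hcon
    push Not at hcon
    have hs : Function.Surjective (fun x : Fˣ => (x : F) + (x : F)⁻¹) := by
      intro τ
      obtain ⟨x, hx, e⟩ := hcon τ
      exact ⟨Units.mk0 x hx, e⟩
    have h1 := Fintype.card_le_of_surjective _ hs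
    rw [Fintype.card_units] at h1
    have h2 : 0 < Fintype.card F := Fintype.card_pos
    omega
  obtain ⟨B, hB⟩ : ∃ B : Matrix.SpecialLinearGroup (Fin 2) F, B.1 = !![0, -1; 1, τ] :=
    ⟨⟨!![0, -1; 1, τ], by rw [Matrix.det_fin_two_of]; ring⟩, rfl⟩
  refine ⟨B, fun C hC => ?_⟩
  have hdet := C.2
  rw [Matrix.det_fin_two] at hdet
  have h1 : (C⁻¹ * B * C : Matrix.SpecialLinearGroup (Fin 2) F).1 1 0 =
      C.1 0 0 * C.1 0 0 + τ * C.1 0 0 * C.1 1 0 + C.1 1 0 * C.1 1 0 := by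
    rw [Matrix.SpecialLinearGroup.coe_mul, Matrix.SpecialLinearGroup.coe_mul, Matrix.SpecialLinearGroup.coe_inv,
      Matrix.adjugate_fin_two, hB]
    simp [Matrix.mul_apply, Fin.sum_univ_two]
    ring
  rw [h1] at hC
  by_cases h0 : C.1 0 0 = 0
  · rw [h0] at hC hdet
    have h2 : C.1 1 0 * C.1 1 0 = 0 := by linear_combination hC
    have h3 : C.1 1 0 = 0 := mul_self_eq_zero.1 h2
    rw [h3] at hdet
    simp at hdet
  · have h10 : C.1 1 0 ≠ 0 := by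
      intro h2
      rw [h2] at hC
      apply h0
      exact mul_self_eq_zero.1 (by linear_combination hC)
    apply hτ (-(C.1 0 0 / C.1 1 0)) (neg_ne_zero.2 (div_ne_zero h0 h10))
    field_simp
    linear_combination (-1 : F) * hC

variable {hK hφ}

theorem El.pow_SL {l : ℕ} {g : ↥(twistedD4 K q)} (E : El hK hφ l g) (hq : IsPrimePow q)
    (B : Matrix.SpecialLinearGroup (Fin 2) (KD φ 0)) :
    (g * PhiD hφ hK 0 B) ^ Nat.card (Matrix.SpecialLinearGroup (Fin 2) (KD φ 0)) =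
      g ^ Nat.card (Matrix.SpecialLinearGroup (Fin 2) (KD φ 0)) := by
  rw [(show Commute g (PhiD hφ hK 0 B) from E.comm0 hq B).mul_pow, ← map_pow, pow_card_eq_one', map_one, mul_one]

/-- **two elements which are not conjugate** -/
theorem El.not_conj {l : ℕ} {g : ↥(twistedD4 K q)} (E : El hK hφ l g) (hq : IsPrimePow q) (h5 : 5 ≤ l)
    (hm : ¬ l ∣ Nat.card (Matrix.SpecialLinearGroup (Fin 2) (KD φ 0)))
    {B : Matrix.SpecialLinearGroup (Fin 2) (KD φ 0)} {x : ↥(twistedD4 K q)}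
    (hx : x * (g * PhiD hφ hK 0 B) * x⁻¹ = g ^ 2 * PhiD hφ hK 0 B) : False := by
  obtain ⟨r, hr⟩ := CharP.exists K
  have : Fact r.Prime := ⟨CharP.char_is_prime K r⟩
  have E2 : El hK hφ l (g ^ 2) := E.powEl fun h => by
    have := Nat.le_of_dvd (by norm_num) h
    omega
  have h1 := E.pow_SL hq B
  have h2 := E2.pow_SL hq B
  rw [← hx, conj_pow, h1] at h2
  obtain ⟨m, hm'⟩ : ∃ m, m = Nat.card (Matrix.SpecialLinearGroup (Fin 2) (KD φ 0)) := ⟨_, rfl⟩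
  rw [← hm'] at hm h2
  obtain ⟨w, k, hk, h3⟩ := conj_T (hK := hK) (hφ := hφ) (r := r) (_root_.pow_mem E.mem m) (_root_.pow_mem E2.mem m) h2
  have h4 := (E.powEl hm).norm hq hk.inv
  rw [inv_inv, h3] at h4
  rcases h4 with h4 | h4
  · apply (E.powEl hm).ne
    rw [← pow_mul, two_mul, pow_add] at h4
    exact mul_eq_left.1 h4
  · have h6 : ¬ l ∣ 3 * m := by
      intro h
      rcases (Nat.Prime.dvd_mul E.prime).1 h with h7 | h7
      · have := Nat.le_of_dvd (by norm_num) h7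
        omega
      · exact hm h7
    apply (E.powEl h6).ne
    rw [← pow_mul] at h4
    have h7 : 3 * m = 2 * m + m := by ring
    rw [h7, pow_add, h4, inv_mul_cancel]

end Cfsg.Agent.H866.OZ.D4
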