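import Mathlib
import Cfsg.Agent.H866.OZ.KawTwo
import Cfsg.Agent.H866.OZ.Pi
import Cfsg.Agent.H866.OZ.Elts2
import Cfsg.Agent.H364.OZ.Mid
import Cfsg.Agent.H279.OZ.Kaw
import Cfsg.Agent.H448.Van.GoodEx
import Cfsg.Agent.H448.Van.Cong
import Cfsg.Agent.H730.OZ.Asm
import Cfsg.Agent.S1092

/-!
# S4842: the row `³D₄(q)` (helper866)
-/

set_option autoImplicit false
set_option linter.unusedSectionVars false
set_option maxHeartbeats 400000

namespace Cfsg.Agent.H866.OZ.D4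

open CoxeterSystem Cfsg.Agent.ChevalleyStructure.CoxeterGeom Cfsg.Agent.Tits.Roots Cfsg.Agent.Tits.Core
  Cfsg.Agent.Tits.Exchange Cfsg.Agent.Nodes.Reps Cfsg.Agent.Nodes.BNOf Cfsg.Agent.Nodes.StabComb
  Cfsg.Agent.Nodes.Bruhat Cfsg.Agent.Nodes.OppDec Cfsg.Agent.Nodes.LeviDec Cfsg.Agent.Nodes.RGDTwGen
  Cfsg.Agent.Nodes.RGDChev Cfsg.Agent.Nodes.RGDFold Cfsg.Agent.Nodes.RGDFoldSL
open Cfsg.Agent.KFacts.RgdOpp Cfsg.Agent.KFacts.RgdAut Cfsg.Agent.KFacts.RgdDiag Cfsg.Agent.KFacts.RgdRigid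
  Cfsg.Agent.KFacts.RgdField Cfsg.Agent.KFacts.RgdTau Cfsg.Agent.KFacts.RgdNodes
open Cfsg.Lie Cfsg.Agent.ChevalleyStructure Cfsg.Agent.ChevalleyStructure.Elts
open Cfsg.Agent.ChevalleyStructure.SL2Hom (up lo mem_closure_SL2)
open Cfsg.Agent.KFacts.TwDFour.Out
open Cfsg.Agent.Nodes.RGDTwD4 Cfsg.Agent.Nodes.RGDTwNode.D4
open Cfsg.Agent.CpAut.RgdFix Cfsg.Agent.CpAut.RgdConj Cfsg.Agent.CpAut.RgdTwStd Cfsg.Agent.CpAut.RgdTwD4
open Cfsg.Agent.H866.D4Wf.Frame
open Cfsg.Agent.KFacts.TwESix.NodeCoord (hS_mul)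
open Cfsg.Agent.H631.Kaw (pel mem_pel)
open LinearMap (trace)

variable {K : Type} [Field K] [Fintype K] {q : ℕ} (hK : Fintype.card K = q ^ 3)
  {φ : K →+* K} (hφ : ∀ x, φ x = x ^ q)

/-! ### the orders -/

include hK hφ in
theorem card_root (hq : IsPrimePow q) : Nat.card (X φ q ![1, 0]) = q ∧ Nat.card (X φ q ![0, 1]) = q ^ 3 ∧
    Nat.card (X φ q ![1, 1]) = q ^ 3 ∧ Nat.card (X φ q ![1, 2]) = q ^ 3 ∧ Nat.card (X φ q ![1, 3]) = q ∧
    Nat.card (X φ q ![2, 3]) = q := by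
  obtain ⟨r, hr⟩ := CharP.exists K
  have : Fact r.Prime := ⟨CharP.char_is_prime K r⟩
  have : Finite CoxeterMatrix.G₂.Group := finiteW cs
  have R := rgd' hK hφ r
  have h10 : Nat.card (X φ q ![1, 0]) = q := by rw [← sr0_eq]; exact card_X0 hK hφ hq
  have h01 : Nat.card (X φ q ![0, 1]) = q ^ 3 := by rw [← sr1_eq]; exact card_X1 hK hφ
  have h11 := Cfsg.Agent.Nodes.CardSup.card_X_rep R (cs.simple 0) (isRoot_of_mem (z := ![0, 1]) (by decide))
  rw [rep0, show (![1 - 0, 1] : Fin 2 → ℤ) = ![1, 1] by decide, h01] at h11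
  have h12 := Cfsg.Agent.Nodes.CardSup.card_X_rep R (cs.simple 1) (isRoot_of_mem (z := ![1, 1]) (by decide))
  rw [rep1, show (![1, 3 * 1 - 1] : Fin 2 → ℤ) = ![1, 2] by decide, h11] at h12
  have h13 := Cfsg.Agent.Nodes.CardSup.card_X_rep R (cs.simple 1) (isRoot_of_mem (z := ![1, 0]) (by decide))
  rw [rep1, show (![1, 3 * 1 - 0] : Fin 2 → ℤ) = ![1, 3] by decide, h10] at h13
  exact ⟨h10, h01, h11, h12, h13, card_X23 hK hφ hq⟩

include hK hφ in
theorem card_U (hq : IsPrimePow q) : Nat.card (RGD.Sup (X φ q) (RGD.Pos cs isCartan)) = q ^ 12 := by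
  classical
  obtain ⟨r, hr⟩ := CharP.exists K
  have : Fact r.Prime := ⟨CharP.char_is_prime K r⟩
  have : Finite CoxeterMatrix.G₂.Group := finiteW cs
  have R := rgd' hK hφ r
  obtain ⟨s, hs⟩ : ∃ s : Finset (Fin 2 → ℤ), s = {![1, 0], ![0, 1], ![1, 1], ![1, 2], ![1, 3], ![2, 3]} := ⟨_, rfl⟩
  have h1 : ((s : Finset (Fin 2 → ℤ)) : Set (Fin 2 → ℤ)) = RGD.Pos cs isCartan := by
    ext x
    rw [Finset.mem_coe]
    constructor
    · intro hx
      rw [hs] at hx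
      simp only [Finset.mem_insert, Finset.mem_singleton] at hx
      rcases hx with rfl | rfl | rfl | rfl | rfl | rfl
      all_goals exact ⟨isRoot_of_mem (by decide), by intro j; fin_cases j <;> simp⟩
    · rintro ⟨hx, h0⟩
      have hmem := root_mem hx
      have hx0 : 0 ≤ x 0 := h0 0
      have hx1 : 0 ≤ x 1 := h0 1
      rw [hs]
      simp only [rts, List.mem_cons, List.not_mem_nil, or_false] at hmem
      simp only [Finset.mem_insert, Finset.mem_singleton]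
      rcases hmem with rfl | rfl | rfl | rfl | rfl | rfl | rfl | rfl | rfl | rfl | rfl | rfl
      all_goals first
        | (exfalso; simp at hx0 hx1; done)
        | tauto
  have h2 := Cfsg.Agent.Nodes.CardSup.card_sup R (s := s) (by rw [h1]) (by rw [h1]; exact Cfsg.Agent.Nodes.Unique.closed_pos)
  rw [h1] at h2
  obtain ⟨h10, h01, h11, h12, h13, h23⟩ := card_root hK hφ hq
  rw [h2, hs, Finset.prod_insert (by decide), Finset.prod_insert (by decide), Finset.prod_insert (by decide),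
    Finset.prod_insert (by decide), Finset.prod_insert (by decide), Finset.prod_singleton, h10, h01, h11, h12, h13, h23]
  ring

end Cfsg.Agent.H866.OZ.D4
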