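import Mathlib
import Cfsg.Agent.H866.OZ.RowD4

/-!
# S4842: the row `³D₄(q)`, the assembly (helper866)
-/

set_option autoImplicit false
set_option linter.unusedSectionVars false
set_option maxHeartbeats 400000

namespace Cfsg.Agent.H866.OZ.D4

open CoxeterSystem Cfsg.Agent.ChevalleyStructure.CoxeterGeom Cfsg.Agent.Tits.Roots Cfsg.Agent.Tits.Core
  Cfsg.Agent.Tits.Exchange Cfsg.Agent.Nodes.Reps Cfsg.Agent.Nodes.BNOf Cfsg.Agent.Nodes.StabComb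
  Cfsg.Agent.Nodes.Bruhat Cfsg.Agent.Nodes.OppDec Cfsg.Agent.Nodes.LeviDec Cfsg.Agent.Nodes.RGDTwGen
  Cfsg.Agent.Nodes.RGDChev Cfsg.Agent.Nodes.RGDFold Cfsg.Agent.Nodes.RGDFoldSL
open Cfsg.Agent.KFacts.RgdOpp Cfsg.Agent.KFacts.RgdAut Cfsg.Agent.KFacts.RgdDiag Cfsg.Agent.KFacts.RgdRigid
  Cfsg.Agent.KFacts.RgdField Cfsg.Agent.KFacts.RgdTau Cfsg.Agent.KFacts.RgdNodes
open Cfsg.Lie Cfsg.Agent.ChevalleyStructure Cfsg.Agent.ChevalleyStructure.Elts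
open Cfsg.Agent.ChevalleyStructure.SL2Hom (up lo mem_closure_SL2)
open Cfsg.Agent.KFacts.TwDFour.Out
open Cfsg.Agent.Nodes.RGDTwD4 Cfsg.Agent.Nodes.RGDTwNode.D4
open Cfsg.Agent.CpAut.RgdFix Cfsg.Agent.CpAut.RgdConj Cfsg.Agent.CpAut.RgdTwStd Cfsg.Agent.CpAut.RgdTwD4
open Cfsg.Agent.H866.D4Wf.Frame
open Cfsg.Agent.KFacts.TwESix.NodeCoord (hS_mul)
open Cfsg.Agent.H631.Kaw (pel mem_pel)
open LinearMap (trace)

variable {K : Type} [Field K] [Fintype K] {q : ℕ} (hK : Fintype.card K = q ^ 3)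
  {φ : K →+* K} (hφ : ∀ x, φ x = x ^ q)

/-! ### the sum over the `p`-elements -/

/-- the arithmetic of the orders -/
theorem ratio {Q U B P0 P1 G : ℂ} (hQ0 : Q ≠ 0) (hQ1 : Q - 1 ≠ 0) (hQ2 : Q ^ 2 + Q + 1 ≠ 0) (hQ3 : Q + 1 ≠ 0)
    (hQ4 : Q ^ 3 + 1 ≠ 0) (hU : U = Q ^ 12) (hB : B = U * ((Q - 1) ^ 2 * (Q ^ 2 + Q + 1))) (h0 : P0 = (1 + Q) * B)
    (h1 : P1 = (1 + Q ^ 3) * B) (hG : G = Q ^ 12 * (Q ^ 2 - 1) * (Q ^ 6 - 1) * (Q ^ 8 + Q ^ 4 + 1)) :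
    G / P0 = (Q ^ 8 + Q ^ 4 + 1) * (Q ^ 3 + 1) ∧ G / P1 = (Q ^ 8 + Q ^ 4 + 1) * (Q + 1) ∧
      G / B = (Q ^ 8 + Q ^ 4 + 1) * (Q ^ 3 + 1) * (Q + 1) := by
  have hU0 : U ≠ 0 := by rw [hU]; exact pow_ne_zero _ hQ0
  have hB0 : B ≠ 0 := by rw [hB]; exact mul_ne_zero hU0 (mul_ne_zero (pow_ne_zero _ hQ1) hQ2)
  have e3 : 1 + Q ^ 3 ≠ 0 := by rw [add_comm]; exact hQ4
  have e1 : 1 + Q ≠ 0 := by rw [add_comm]; exact hQ3
  refine ⟨?_, ?_, ?_⟩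
  · rw [div_eq_iff (by rw [h0]; exact mul_ne_zero e1 hB0), h0, hB, hU, hG]
    ring
  · rw [div_eq_iff (by rw [h1]; exact mul_ne_zero e3 hB0), h1, hB, hU, hG]
    ring
  · rw [div_eq_iff hB0, hB, hU, hG]
    ring

variable {V : Type} [AddCommGroup V] [Module ℂ V] [FiniteDimensional ℂ V]
  {ρ : Representation ℂ ↥(twistedD4 K q) V}

include hK hφ in
/-- **the sum over the `p`-elements** -/
theorem kaw_D4 (hq : IsPrimePow q) {p : ℕ} [Fact p.Prime] [CharP K p] :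
    ∑ g ∈ pel ↥(twistedD4 K q) p, trace ℂ V (ρ g) = (q : ℂ) ^ 12 * ((Module.finrank ℂ V : ℂ) -
      ((q : ℂ) ^ 8 + (q : ℂ) ^ 4 + 1) * ((q : ℂ) ^ 3 + 1) * trace ℂ V (eV ρ cs isCartan (X φ q) 0) -
      ((q : ℂ) ^ 8 + (q : ℂ) ^ 4 + 1) * ((q : ℂ) + 1) * trace ℂ V (eV ρ cs isCartan (X φ q) 1) +
      ((q : ℂ) ^ 8 + (q : ℂ) ^ 4 + 1) * ((q : ℂ) ^ 3 + 1) * ((q : ℂ) + 1) * trace ℂ V (eU ρ cs isCartan (X φ q))) := by
  have : Finite CoxeterMatrix.G₂.Group := finiteW cs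
  have R := rgd' hK hφ p
  have h2 := hq.two_le
  have hU := card_U hK hφ hq
  have hB := H35.Poin.card_B' R
  have h0 := card_PJ_one R 0
  have h1 := card_PJ_one R 1
  have hG := Cfsg.Agent.S1067.result hq hK
  rw [hU, card_T hK hφ hq] at hB
  rw [card_X0 hK hφ hq] at h0
  rw [card_X1 hK hφ] at h1
  have hq1 : (1 : ℕ) ≤ q := by omega
  have hq2' : (1 : ℕ) ≤ q ^ 2 := Nat.one_le_pow _ _ (by omega)
  have hq6 : (1 : ℕ) ≤ q ^ 6 := Nat.one_le_pow _ _ (by omega)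
  have cU : (Nat.card (RGD.Sup (X φ q) (RGD.Pos cs isCartan)) : ℂ) = (q : ℂ) ^ 12 := by exact_mod_cast hU
  have cB : (Nat.card (RGD.B cs isCartan (T K q) (X φ q)) : ℂ) =
      (q : ℂ) ^ 12 * (((q : ℂ) - 1) ^ 2 * ((q : ℂ) ^ 2 + q + 1)) := by
    rw [hB]
    push_cast [Nat.cast_sub hq1]
    ring
  have c0 : (Nat.card (PJ cs isCartan (T K q) (X φ q) ({0} : Set (Fin 2))) : ℂ) =
      (1 + (q : ℂ)) * (Nat.card (RGD.B cs isCartan (T K q) (X φ q)) : ℂ) := by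
    rw [h0]; push_cast; ring
  have c1 : (Nat.card (PJ cs isCartan (T K q) (X φ q) ({1} : Set (Fin 2))) : ℂ) =
      (1 + (q : ℂ) ^ 3) * (Nat.card (RGD.B cs isCartan (T K q) (X φ q)) : ℂ) := by
    rw [h1]; push_cast; ring
  have cG : (Nat.card ↥(twistedD4 K q) : ℂ) =
      (q : ℂ) ^ 12 * ((q : ℂ) ^ 2 - 1) * ((q : ℂ) ^ 6 - 1) * ((q : ℂ) ^ 8 + (q : ℂ) ^ 4 + 1) := by
    rw [hG]
    push_cast [Nat.cast_sub hq2', Nat.cast_sub hq6]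
    ring
  have n0 : (q : ℂ) ≠ 0 := by exact_mod_cast (by omega : q ≠ 0)
  have n1 : (q : ℂ) - 1 ≠ 0 := by
    rw [sub_ne_zero]
    exact_mod_cast (by omega : q ≠ 1)
  have n2 : (q : ℂ) ^ 2 + q + 1 ≠ 0 := by exact_mod_cast (by positivity : q ^ 2 + q + 1 ≠ 0)
  have n3 : (q : ℂ) + 1 ≠ 0 := by exact_mod_cast (by omega : q + 1 ≠ 0)
  have n4 : (q : ℂ) ^ 3 + 1 ≠ 0 := by exact_mod_cast (by positivity : q ^ 3 + 1 ≠ 0)
  obtain ⟨r0, r1, rB⟩ := ratio n0 n1 n2 n3 n4 rfl cB c0 c1 cG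
  rw [kaw_two R (GG_top hK hφ), cU, r0, r1, rB]

/-! ### the values at the elliptic elements -/

variable {hK hφ}

/-- **the value is zero if `n_0 = 0`** -/
theorem El.chi_zero {l : ℕ} {g : ↥(twistedD4 K q)} (E : El hK hφ l g) (hq : IsPrimePow q)
    [Fintype (KD φ 0)] [DecidableEq (KD φ 0)]
    (hm : ¬ l ∣ Nat.card (Matrix.SpecialLinearGroup (Fin 2) (KD φ 0)))
    {B : Matrix.SpecialLinearGroup (Fin 2) (KD φ 0)} (hB : Ellip B) (hρ : ρ.IsIrreducible)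
    (h0 : eU ρ cs isCartan (X φ q) ≠ 0)
    (hz : trace ℂ V (piA (ps ρ (PhiD hφ hK 0)) (eV ρ cs isCartan (X φ q) 0)) -
      trace ℂ V (piS (ps ρ (PhiD hφ hK 0)) (eV ρ cs isCartan (X φ q) 0)) = 0) :
    trace ℂ V (ρ (g * PhiD hφ hK 0 B)) = 0 := by
  obtain ⟨r, hr⟩ := CharP.exists K
  have : Fact r.Prime := ⟨CharP.char_is_prime K r⟩
  have : Finite CoxeterMatrix.G₂.Group := finiteW cs
  have R := rgd' hK hφ r
  have hG := GG_top (q := q) hK hφ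
  have C := co hK hφ 0
  have hT : ∀ s ∈ T K q, ∀ t ∈ T K q, s * t = t * s := fun s hs t ht => T_comm hK hφ hs ht
  have hk := rp_n' hK hφ r
  obtain ⟨B', hB'⟩ := conj_range hK hφ hk rep_w'_inv_sr0 B
  have hE' := ellip_conj hK hφ hk rep_w'_inv_sr0 hB hB'
  have h1 := C.char_elliptic R hG hρ h0 hT (sur hK hφ hq 0) E.mem (E.comm0 hq) hB
    (fun v hv h => E.free hq hm hB hv h)
  have h2 := C.char_elliptic R hG hρ h0 hT (sur hK hφ hq 0) E.invEl.mem (E.invEl.comm0 hq) hE'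
    (fun v hv h => E.invEl.free hq hm hE' hv h)
  have h3 : trace ℂ V (ρ (g⁻¹ * PhiD hφ hK 0 B')) = trace ℂ V (ρ (g * PhiD hφ hK 0 B)) := by
    have h4 : g⁻¹ * PhiD hφ hK 0 B' = (n' hφ)⁻¹ * (g * PhiD hφ hK 0 B) * n' hφ := by
      rw [← hB', ← E.n'_inv hq]
      group
    rw [h4, mul_assoc, map_mul ρ, LinearMap.trace_mul_comm, ← map_mul, mul_assoc, mul_inv_cancel, mul_one]
  rw [h3] at h2
  obtain ⟨κ, hκ⟩ := scalar_M R hG hρ E.mem (fun w k hk => E.norm hq hk)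
  have hεε : eV ρ cs isCartan (X φ q) 0 * eV ρ cs isCartan (X φ q) 0 = eV ρ cs isCartan (X φ q) 0 := eV_eV R
  have hεc : ∀ B, eV ρ cs isCartan (X φ q) 0 * ps ρ (PhiD hφ hK 0) B = ps ρ (PhiD hφ hK 0) B * eV ρ cs isCartan (X φ q) 0 :=
    fun B => C.eV_comm R B
  have huA : eU ρ cs isCartan (X φ q) * piA (ps ρ (PhiD hφ hK 0)) (eV ρ cs isCartan (X φ q) 0) =
      piA (ps ρ (PhiD hφ hK 0)) (eV ρ cs isCartan (X φ q) 0) := by
    rw [← C.uu_eq R]; exact uu_piA hεε hεc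
  have huS : eU ρ cs isCartan (X φ q) * piS (ps ρ (PhiD hφ hK 0)) (eV ρ cs isCartan (X φ q) 0) =
      piS (ps ρ (PhiD hφ hK 0)) (eV ρ cs isCartan (X φ q) 0) := by
    rw [← C.uu_eq R]; exact uu_piS hεε hεc
  have key : ∀ {π : Module.End ℂ V}, eU ρ cs isCartan (X φ q) * π = π →
      trace ℂ V (ρ g * π) + trace ℂ V (ρ g⁻¹ * π) = κ * trace ℂ V π := by
    intro π hπ
    have h5 : ρ g * π + ρ g⁻¹ * π = κ • π := by
      rw [← add_mul]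
      conv_lhs => rw [← hπ]
      rw [← mul_assoc, hκ, smul_mul_assoc, hπ]
    have h6 := congrArg (trace ℂ V) h5
    rw [map_add, map_smul, smul_eq_mul] at h6
    exact h6
  have kA := key huA
  have kS := key huS
  linear_combination (1 / 2 : ℂ) * h1 + (1 / 2 : ℂ) * h2 + (1 / 2 : ℂ) * kA - (1 / 2 : ℂ) * kS + (κ / 2) * hz

/-- the value is zero if `V^(V_0) = 0` -/
theorem El.chi_zero' {l : ℕ} {g : ↥(twistedD4 K q)} (E : El hK hφ l g) (hq : IsPrimePow q)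
    (hm : ¬ l ∣ Nat.card (Matrix.SpecialLinearGroup (Fin 2) (KD φ 0)))
    {B : Matrix.SpecialLinearGroup (Fin 2) (KD φ 0)} (hB : Ellip B)
    (h0 : eV ρ cs isCartan (X φ q) 0 = 0) : trace ℂ V (ρ (g * PhiD hφ hK 0 B)) = 0 := by
  obtain ⟨r, hr⟩ := CharP.exists K
  have : Fact r.Prime := ⟨CharP.char_is_prime K r⟩
  have : Finite CoxeterMatrix.G₂.Group := finiteW cs
  have R := rgd' hK hφ r
  classical
  have := Fintype.ofFinite (KD φ 0)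
  have hnorm : g * PhiD hφ hK 0 B ∈ Subgroup.normalizer (VJ cs isCartan (X φ q) {0} : Set ↥(twistedD4 K q)) :=
    mul_mem (T_le_normalizer_VJ R {0} E.mem) ((co hK hφ 0).mem_normalizer R B)
  have h1 : trace ℂ V (ρ (g * PhiD hφ hK 0 B) * eV ρ cs isCartan (X φ q) 0) = trace ℂ V (ρ (g * PhiD hφ hK 0 B)) := by
    refine trace_av ρ (fun x hx => ?_) (fun v hv h => E.free hq hm hB hv h)
    have := (Subgroup.mem_normalizer_iff.1 (inv_mem hnorm) x).1 hx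
    rwa [inv_inv] at this
  rw [← h1, h0, mul_zero, map_zero]

end Cfsg.Agent.H866.OZ.D4
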