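import Mathlib
import Cfsg.Agent.H866.OZ.RowD4b
import Cfsg.Agent.H866.OZ.ArD4

/-!
# S4842: the row `³D₄(q)`, final part (helper866)
-/

set_option autoImplicit false
set_option linter.unusedSectionVars false
set_option maxHeartbeats 400000

namespace Cfsg.Agent.H866.OZ.D4

open CoxeterSystem Cfsg.Agent.ChevalleyStructure.CoxeterGeom Cfsg.Agent.Tits.Roots Cfsg.Agent.Tits.Core
  Cfsg.Agent.Tits.Exchange Cfsg.Agent.Nodes.Reps Cfsg.Agent.Nodes.BNOf Cfsg.Agent.Nodes.StabComb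
  Cfsg.Agent.Nodes.Bruhat Cfsg.Agent.Nodes.OppDec Cfsg.Agent.Nodes.LeviDec Cfsg.Agent.Nodes.RGDTwGen
  Cfsg.Agent.Nodes.RGDChev Cfsg.Agent.Nodes.RGDFold Cfsg.Agent.Nodes.RGDFoldSL
open Cfsg.Agent.KFacts.RgdOpp Cfsg.Agent.KFacts.RgdAut Cfsg.Agent.KFacts.RgdDiag Cfsg.Agent.KFacts.RgdRigid
  Cfsg.Agent.KFacts.RgdField Cfsg.Agent.KFacts.RgdTau Cfsg.Agent.KFacts.RgdNodes
open Cfsg.Lie Cfsg.Agent.ChevalleyStructure Cfsg.Agent.ChevalleyStructure.Elts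
open Cfsg.Agent.ChevalleyStructure.SL2Hom (up lo mem_closure_SL2)
open Cfsg.Agent.KFacts.TwDFour.Out
open Cfsg.Agent.Nodes.RGDTwD4 Cfsg.Agent.Nodes.RGDTwNode.D4
open Cfsg.Agent.CpAut.RgdFix Cfsg.Agent.CpAut.RgdConj Cfsg.Agent.CpAut.RgdTwStd Cfsg.Agent.CpAut.RgdTwD4
open Cfsg.Agent.H866.D4Wf.Frame
open Cfsg.Agent.KFacts.TwESix.NodeCoord (hS_mul)
open Cfsg.Agent.H631.Kaw (pel mem_pel)
open Cfsg.Agent.H730.OZ (OneZero Concl Row pSet Kaw)
open LinearMap (trace)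

variable {K : Type} [Field K] [Fintype K] {q : ℕ} (hK : Fintype.card K = q ^ 3)
  {φ : K →+* K} (hφ : ∀ x, φ x = x ^ q)

include hK hφ in
/-- the condition on `t` -/
theorem exists_t (hq : IsPrimePow q) (i : Fin 2) {t : ↥(twistedD4 K q)} (ht : t ∈ T K q) :
    ∃ d : KD φ i, d ≠ 0 ∧ t * n hφ i = n hφ i * PhiD hφ hK i (hS d) * t := by
  have h1 := n_t_n_t hK hφ i ht
  refine ⟨(chD hφ hK i t)⁻¹, inv_ne_zero (ch_ne_zero hK hφ ht i), ?_⟩
  rw [mul_assoc (n hφ i), ← h1]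
  group

include hK hφ in
/-- **the two cases** -/
theorem main {N : ℕ} {ρ : Representation ℂ ↥(twistedD4 K q) (Fin N → ℂ)} (hρ : ρ.IsIrreducible) (hq : IsPrimePow q)
    {p : ℕ} [Fact p.Prime] [CharP K p] {c : ℂ}
    (hc : c = (q : ℂ) ^ 12 ∨ c = -(q : ℂ) ^ 6 ∨ c = -(q : ℂ) ^ 18)
    (hs : ∑ g ∈ pel ↥(twistedD4 K q) p, ρ.character g = c * ρ.character 1) (hz : OneZero ρ.character) : False := by
  classical
  have : Finite CoxeterMatrix.G₂.Group := finiteW cs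
  have := Fintype.ofFinite (KD φ 0)
  have := Fintype.ofFinite (KD φ 1)
  have R := rgd' hK hφ p
  have hG := GG_top (q := q) hK hφ
  have hT : ∀ s ∈ T K q, ∀ t ∈ T K q, s * t = t * s := fun s hs t ht => T_comm hK hφ hs ht
  have h2 := hq.two_le
  have hN : ρ.character 1 = (N : ℂ) := by
    show trace ℂ (Fin N → ℂ) (ρ 1) = _
    rw [map_one]
    have h1 : trace ℂ (Fin N → ℂ) (1 : Module.End ℂ (Fin N → ℂ)) = (Module.finrank ℂ (Fin N → ℂ) : ℂ) :=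
      LinearMap.trace_one ℂ (Fin N → ℂ)
    rw [h1, Module.finrank_fin_fun]
  have hkaw := kaw_D4 (ρ := ρ) hK hφ hq (p := p)
  have hs' : ∑ g ∈ pel ↥(twistedD4 K q) p, trace ℂ (Fin N → ℂ) (ρ g) = c * (N : ℂ) := by
    rw [← hN]
    exact hs
  rw [hs', Module.finrank_fin_fun] at hkaw
  -- the elements
  obtain ⟨l, g, E, h5, hld⟩ := exists_el hK hφ hq
  have hSL : Nat.card (Matrix.SpecialLinearGroup (Fin 2) (KD φ 0)) = q * (q ^ 2 - 1) := by
    rw [card_SL2, card_KD0 hK hφ hq]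
  have hm : ¬ l ∣ Nat.card (Matrix.SpecialLinearGroup (Fin 2) (KD φ 0)) := by
    rw [hSL]
    exact not_dvd_SL hq E.prime h5 hld
  obtain ⟨B, hB⟩ := exists_ellip (F := KD φ 0)
  have E2 : El hK hφ l (g ^ 2) := E.powEl fun h => by
    have := Nat.le_of_dvd (by norm_num) h
    omega
  have hno : ¬ (trace ℂ (Fin N → ℂ) (ρ (g * PhiD hφ hK 0 B)) = 0 ∧
      trace ℂ (Fin N → ℂ) (ρ (g ^ 2 * PhiD hφ hK 0 B)) = 0) := by
    rintro ⟨h3, h4⟩
    obtain ⟨x, -, hx⟩ := hz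
    have h6 := (hx _ h3).symm.trans (hx _ h4)
    obtain ⟨y, hy⟩ := isConj_iff.1 h6
    exact E.not_conj hq h5 hm hy
  by_cases h0 : eU ρ cs isCartan (X φ q) = 0
  · -- `V^U = 0`
    have hV : eV ρ cs isCartan (X φ q) 0 ≠ 0 := by
      intro h3
      exact hno ⟨E.chi_zero' hq hm hB h3, E2.chi_zero' hq hm hB h3⟩
    have h1 := rank_two R hG hρ h0 (i := 0) (j := 1) hij hV
    obtain ⟨d, hd, hdd⟩ := finrank_V R hG hρ h0 (i := 0) hV (n' := n' hφ)
      (fun l hl => n'_both hK hφ hl) (fun w k hk hw => dich hK hφ hk hw)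
    have htr : trace ℂ (Fin N → ℂ) (eV ρ cs isCartan (X φ q) 0) =
        (Module.finrank ℂ (LinearMap.range (eV ρ cs isCartan (X φ q) 0)) : ℂ) := trace_idem (eV_eV R)
    rw [h0, h1, map_zero, mul_zero, mul_zero, sub_zero, add_zero, htr] at hkaw
    refine arith_cusp h2 (D := Module.finrank ℂ (LinearMap.range (eV ρ cs isCartan (X φ q) 0))) (d := d) ?_ hdd
      (hd.trans (Subgroup.card_subgroup_dvd_card _)) (Cfsg.Agent.S1067.result hq hK) hc hkaw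
    intro h3
    rw [Submodule.finrank_eq_zero] at h3
    exact hV (LinearMap.range_eq_bot.1 h3)
  · -- `V^U ≠ 0`
    obtain ⟨r, s, hr, hs0, hrs⟩ := lam_nonneg R hG ρ hρ h0 hs
    have hc' : c = (q : ℂ) ^ 12 := by
      have hpos : ∀ k : ℕ, (-(q : ℂ) ^ k) * r = s → False := by
        intro k h3
        have h4 : (-(q : ℝ) ^ k) * r = s := by exact_mod_cast h3
        have h6 : (0 : ℝ) < (q : ℝ) ^ k := by
          have : (0 : ℝ) < q := by exact_mod_cast (by omega : 0 < q)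
          positivity
        nlinarith [mul_pos h6 hr]
      rcases hc with rfl | rfl | rfl
      · rfl
      · exact (hpos 6 hrs).elim
      · exact (hpos 18 hrs).elim
    rw [hc'] at hkaw
    have C0 := co hK hφ 0
    have C1 := co hK hφ 1
    obtain ⟨z0, e0, b0⟩ := C0.small R hG hρ hT (fun t ht => exists_t hK hφ hq 0 ht)
    obtain ⟨z1, e1, b1⟩ := C1.small R hG hρ hT (fun t ht => exists_t hK hφ hq 1 ht)
    have d0 := C0.dim_V R hG hρ h0
    have d1 := C1.dim_V R hG hρ h0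
    rw [e0] at d0
    rw [e1] at d1
    have q0 : qq (KD φ 0) = (q : ℂ) := by
      rw [qq, ← Nat.card_eq_fintype_card, card_KD0 hK hφ hq]
    have q1 : qq (KD φ 1) = (q : ℂ) ^ 3 := by
      rw [qq, ← Nat.card_eq_fintype_card, card_KD1 hK hφ]
      push_cast
      rfl
    rw [q0] at d0
    rw [q1] at d1
    have hW : Nat.card CoxeterMatrix.G₂.Group = 12 := Cfsg.Agent.S1092.result (⟨2, CoxeterMatrix.G₂⟩, 12) (by simp)
    rw [hW] at b0
    have hz0 := arith_prin h2 b0 hkaw d0 d1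
    rw [hz0, Int.cast_zero] at e0
    exact hno ⟨E.chi_zero hq hm hB hρ h0 e0, E2.chi_zero hq hm hB hρ h0 e0⟩

end Cfsg.Agent.H866.OZ.D4

namespace Cfsg.Agent.H866.OZ

open Cfsg Cfsg.Lie Cfsg.Agent.H730.OZ
open Cfsg.Agent.H631.Kaw (pel mem_pel)

/-- the row `³D₄(q)` -/
theorem none_td4 {K : Type} [Field K] [Fintype K] {p a q : ℕ} (hs : IsSimpleGroup ↥(twistedD4 K q)) (hp : p.Prime)
    (ha : 0 < a) (hq : q = p ^ a) (hK : Fintype.card K = q ^ 3) (χ : ↥(twistedD4 K q) → ℂ)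
    (hχ : IsIrrCharacter ↥(twistedD4 K q) χ) (hz : OneZero χ) : False := by
  have hqp : IsPrimePow q := by rw [hq]; exact hp.isPrimePow.pow ha.ne'
  have : Fact p.Prime := ⟨hp⟩
  have hcp : CharP K p := by
    obtain ⟨r, hr⟩ := CharP.exists K
    obtain ⟨b, hr', hb⟩ := FiniteField.card K r
    have h1 : p = r := by
      have h2 : p ∣ r ^ (b : ℕ) := by
        rw [← hb, hK, hq]
        exact (dvd_pow_self p ha.ne').trans (dvd_pow_self _ (by norm_num))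
      exact (Nat.prime_dvd_prime_iff_eq hp hr').1 (hp.dvd_of_dvd_pow h2)
    rwa [h1]
  obtain ⟨φ, hφ⟩ := Cfsg.Agent.ChevalleyStructure.D4Fixed.exists_frob hqp hK
  have hKaw := H279.OZ.kaw_of_hasRGD hp (Nodes.RGDTwD4.hasRGD hqp hK p)
  have h12 : H364.OZ.CP p (a * 12) ↥(twistedD4 K q) := by
    obtain ⟨r, hr, ho⟩ := H448.Van.good_3D4_12 hp ha hq hK
    exact ⟨r, hr.prime, ho, hr.cong hp⟩
  have h3 := H364.OZ.sum_3D4 hs hp ha hq hK hKaw h12 hχ hz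
  obtain ⟨N, ρ, hρ, rfl⟩ := hχ
  have h4 : ∑ᶠ u ∈ pSet p ↥(twistedD4 K q), ρ.character u = ∑ g ∈ pel ↥(twistedD4 K q) p, ρ.character g := by
    rw [finsum_mem_eq_finite_toFinset_sum _ (Set.toFinite _)]
    rfl
  rw [h4] at h3
  have e : ∀ k : ℕ, (p : ℂ) ^ (a * k) = (q : ℂ) ^ k := by
    intro k
    rw [hq]
    push_cast
    rw [← pow_mul]
  rw [e, e, e] at h3
  rcases h3 with h3 | h3 | h3
  · exact D4.main hK hφ hρ hqp (Or.inl rfl) h3 hz
  · exact D4.main hK hφ hρ hqp (Or.inr (Or.inl rfl)) h3 hz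
  · exact D4.main hK hφ hρ hqp (Or.inr (Or.inr rfl)) h3 hz

universe u

/-- **S4842 for `³D₄(q)`** -/
theorem row_td4 {S : Type u} [Group S] [Finite S] (hs : IsSimpleGroup S) (h : Lie.Iso3D4 S) : Row S := by
  obtain ⟨K, i1, i2, q, hq, hK, ⟨e⟩⟩ := h
  obtain ⟨p, a, hp, ha, hqa⟩ := hq
  have hs' : IsSimpleGroup ↥(Lie.twistedD4 K q) := (MulEquiv.isSimpleGroup_congr e).1 hs
  exact Row.congr e (Row.of_none fun χ hχ h0 => none_td4 hs' hp.nat_prime ha hqa.symm hK χ hχ h0)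

end Cfsg.Agent.H866.OZ
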